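import Groth.Prelude.Def_FilD
import Mathlib

/-!
# Finite filtered objects: refinements, strictness, exactness
-/

set_option linter.style.haveILetI false

universe v u

open CategoryTheory CategoryTheory.Limits Opposite

noncomputable section

namespace Groth.Agent.FilD70

variable {A : Type u} [Category.{v} A] [Abelian A]

section transition

variable (F G : ℤᵒᵖ ⥤ A)

/-- The transition map `F q ⟶ F p` for `p ≤ q`. -/
abbrev tr {p q : ℤ} (h : p ≤ q) : F.obj (op q) ⟶ F.obj (op p) := F.map (homOfLE h).op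

@[reassoc]
theorem tr_comp {p q r : ℤ} (h : p ≤ q) (h' : q ≤ r) : tr F h' ≫ tr F h = tr F (h.trans h') := by
  rw [← F.map_comp]; rfl

theorem tr_refl (p : ℤ) : tr F (le_refl p) = 𝟙 _ := F.map_id _

theorem isIso_tr_of_eq {p q : ℤ} (h : p ≤ q) (e : p = q) : IsIso (tr F h) := by
  subst e; rw [tr_refl]; infer_instance

variable {F G}

@[reassoc]
theorem tr_nat (φ : F ⟶ G) {p q : ℤ} (h : p ≤ q) :
    tr F h ≫ φ.app (op p) = φ.app (op q) ≫ tr G h := φ.naturality _

/-- Morphisms are natural as soon as they are natural along all transition maps. -/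
def natMk (f : ∀ p : ℤ, F.obj (op p) ⟶ G.obj (op p))
    (h : ∀ (p q : ℤ) (h : p ≤ q), tr F h ≫ f p = f q ≫ tr G h) : F ⟶ G where
  app x := f x.unop
  naturality := fun {x y} g => by
    have : g = (homOfLE (leOfHom g.unop)).op := rfl
    rw [this]
    exact h _ _ _

variable (F G) in
/-- The projection `F p ⟶ gr^p F`. -/
def proj (p : ℤ) : F.obj (op p) ⟶ (FilD.gr A p).obj F :=
  cokernel.π (F.map (FilD.stepHom p))

instance (p : ℤ) : Epi (proj F p) := inferInstanceAs (Epi (cokernel.π _))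

theorem stepHom_eq (p : ℤ) : F.map (FilD.stepHom p) = tr F (Int.le_add_one le_rfl) := rfl

@[reassoc (attr := simp)]
theorem tr_proj (p : ℤ) : tr F (Int.le_add_one (le_refl p)) ≫ proj F p = 0 := cokernel.condition _

theorem tr_proj_of_lt {p q : ℤ} (h : p ≤ q) (h' : p < q) : tr F h ≫ proj F p = 0 := by
  rw [← tr_comp F (Int.le_add_one (le_refl p)) (Int.add_one_le_iff.mpr h'), Category.assoc,
    tr_proj, comp_zero]

@[reassoc (attr := simp)]
theorem proj_map (φ : F ⟶ G) (p : ℤ) :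
    proj F p ≫ (FilD.gr A p).map φ = φ.app (op p) ≫ proj G p := cokernel.π_desc _ _ _

theorem lift_of_proj_eq_zero {p : ℤ} {T : A} (x : T ⟶ F.obj (op p)) (hx : x ≫ proj F p = 0) :
    ∃ (T' : A) (π : T' ⟶ T) (_ : Epi π) (x' : T' ⟶ F.obj (op (p + 1))),
      π ≫ x = x' ≫ tr F (Int.le_add_one le_rfl) :=
  (ShortComplex.exact_iff_exact_up_to_refinements _).mp
    (ShortComplex.exact_of_g_is_cokernel
      (ShortComplex.mk (tr F (Int.le_add_one (le_refl p))) (proj F p) (tr_proj p))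
      (cokernelIsCokernel _)) x hx

theorem lift_proj {p : ℤ} {T : A} (x : T ⟶ (FilD.gr A p).obj F) :
    ∃ (T' : A) (π : T' ⟶ T) (_ : Epi π) (x' : T' ⟶ F.obj (op p)), π ≫ x = x' ≫ proj F p :=
  surjective_up_to_refinements_of_epi (proj F p) x

end transition

section FilF

variable (X : FilD.FilF A)

instance mono_tr {p q : ℤ} (h : p ≤ q) : Mono (tr X.obj h) := X.property.1 _

theorem exists_top : ∃ b : ℤ, ∀ p, b ≤ p → IsZero (X.obj.obj (op p)) := X.property.2.1

theorem exists_bot :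
    ∃ a : ℤ, ∀ (p q : ℤ) (h : p ≤ q), q ≤ a → IsIso (tr X.obj h) := by
  obtain ⟨a, ha⟩ := X.property.2.2
  refine ⟨a, fun p q h hq => ha _ ?_⟩
  exact hq

/-- Descending induction on the filtration degree. -/
theorem induction_top {P : ℤ → Prop} (b : ℤ) (hb : ∀ p, b ≤ p → P p)
    (step : ∀ p, P (p + 1) → P p) : ∀ p, P p := by
  have : ∀ (n : ℕ) (p : ℤ), b ≤ p + n → P p := by
    intro n
    induction n with
    | zero => exact fun p hp => hb p (by simpa using hp)
    | succ n ih => exact fun p hp => step p (ih (p + 1) (by push_cast at hp ⊢; omega))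
  exact fun p => this (b - p).toNat p (by have := Int.self_le_toNat (b - p); omega)

end FilF

section strict

variable {X Y : FilD.FilF A} (φ : X ⟶ Y)

/-- Elements of `Y (p+1)` which are images from `X p` are images from `X (p+1)`. -/
def StrictStep : Prop :=
  ∀ (p : ℤ) ⦃T : A⦄ (x : T ⟶ X.obj.obj (op p)) (y : T ⟶ Y.obj.obj (op (p + 1))),
    x ≫ φ.hom.app (op p) = y ≫ tr Y.obj (Int.le_add_one le_rfl) →
    ∃ (T' : A) (π : T' ⟶ T) (_ : Epi π) (x' : T' ⟶ X.obj.obj (op (p + 1))),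
      x' ≫ φ.hom.app (op (p + 1)) = π ≫ y

theorem exists_lift_of_le (h : StrictStep φ) : ∀ (n : ℕ) (p q : ℤ) (hpq : p ≤ q), q = p + n →
    ∀ ⦃T : A⦄ (x : T ⟶ X.obj.obj (op p)) (y : T ⟶ Y.obj.obj (op q)),
      x ≫ φ.hom.app (op p) = y ≫ tr Y.obj hpq →
      ∃ (T' : A) (π : T' ⟶ T) (_ : Epi π) (x' : T' ⟶ X.obj.obj (op q)),
        x' ≫ φ.hom.app (op q) = π ≫ y := by
  intro n
  induction n with
  | zero =>
    intro p q hpq e T x y hxy
    obtain rfl : q = p := by simpa using e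
    exact ⟨T, 𝟙 T, inferInstance, x, by rw [hxy, tr_refl, Category.comp_id, Category.id_comp]⟩
  | succ n ih =>
    intro p q hpq e T x y hxy
    have h₁ : p + 1 ≤ q := by push_cast at e; omega
    obtain ⟨T', π, hπ, x', hx'⟩ := h p x (y ≫ tr Y.obj h₁) (by rw [hxy, Category.assoc, tr_comp])
    obtain ⟨T'', π', hπ', x'', hx''⟩ := ih (p + 1) q h₁ (by push_cast at e; omega) x' (π ≫ y)
      (by rw [hx', Category.assoc])
    exact ⟨T'', π' ≫ π, epi_comp _ _, x'', by rw [hx'', Category.assoc]⟩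

theorem le_of_lifts {Z P Q : A} (f : P ⟶ Z) (g : Q ⟶ Z) [Mono g]
    (h : ∀ ⦃T : A⦄ (x : T ⟶ P), ∃ (T' : A) (π : T' ⟶ T) (_ : Epi π) (y : T' ⟶ Q), π ≫ x ≫ f = y ≫ g) :
    imageSubobject f ≤ Subobject.mk g := by
  obtain ⟨T', π, hπ, y, hy⟩ := h (𝟙 P)
  rw [Category.id_comp] at hy
  have h0 : f ≫ cokernel.π g = 0 := by
    rw [← cancel_epi π, reassoc_of% hy, cokernel.condition, comp_zero, comp_zero]
  exact imageSubobject_le_mk g f (Abelian.monoLift g f h0) (Abelian.monoLift_comp g f h0)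

theorem isStrict_iff : FilD.IsStrict φ ↔ StrictStep φ := by
  constructor
  · intro h p T x y hxy
    have hm : Mono (Y.obj.map (homOfLE (Int.le_add_one (le_refl p))).op) := Y.property.1 _
    have hfac : (imageSubobject (φ.hom.app (op p)) ⊓ Subobject.mk
        (tr Y.obj (Int.le_add_one (le_refl p)))).Factors (x ≫ φ.hom.app (op p)) := by
      rw [Subobject.inf_factors]
      exact ⟨imageSubobject_factors_comp_self _ x, (Subobject.mk_factors_iff _ _).mpr ⟨y, hxy.symm⟩⟩
    rw [← h p (p + 1) (Int.le_add_one le_rfl)] at hfac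
    obtain ⟨T', π, hπ, x', hx'⟩ := surjective_up_to_refinements_of_epi
      (factorThruImageSubobject (φ.hom.app (op (p + 1)) ≫ tr Y.obj (Int.le_add_one (le_refl p))))
      (Subobject.factorThru _ _ hfac)
    refine ⟨T', π, hπ, x', ?_⟩
    rw [← cancel_mono (tr Y.obj (Int.le_add_one (le_refl p))), Category.assoc, Category.assoc,
      ← hxy, ← imageSubobject_arrow_comp (φ.hom.app (op (p + 1)) ≫ _), ← Category.assoc, ← hx',
      Category.assoc, Subobject.factorThru_arrow]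
  · intro h p q hpq
    haveI : Mono (Y.obj.map (homOfLE hpq).op) := Y.property.1 _
    refine le_antisymm (le_inf ?_ (imageSubobject_le_mk _ _ (φ.hom.app (op q)) rfl)) ?_
    · refine imageSubobject_le _ (X.obj.map (homOfLE hpq).op ≫
        factorThruImageSubobject (φ.hom.app (op p))) ?_
      rw [Category.assoc, imageSubobject_arrow_comp]
      exact φ.hom.naturality _
    · let I := imageSubobject (φ.hom.app (op p)) ⊓ Subobject.mk (Y.obj.map (homOfLE hpq).op)
      obtain ⟨a, ha⟩ : ∃ a, a ≫ Y.obj.map (homOfLE hpq).op = I.arrow :=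
        (Subobject.mk_factors_iff _ _).mp (Subobject.inf_arrow_factors_right _ _)
      obtain ⟨b, hb⟩ : ∃ b, b ≫ (imageSubobject (φ.hom.app (op p))).arrow = I.arrow :=
        ⟨Subobject.ofLE _ _ inf_le_left, Subobject.ofLE_arrow _⟩
      obtain ⟨T, π, hπ, x, hx⟩ := surjective_up_to_refinements_of_epi
        (factorThruImageSubobject (φ.hom.app (op p))) b
      obtain ⟨T', π', hπ', x', hx'⟩ := exists_lift_of_le φ h (q - p).toNat p q hpq
        (by omega) x (π ≫ a) (by
          rw [Category.assoc, ha, ← hb, reassoc_of% hx, imageSubobject_arrow_comp])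
      have h0 : I.arrow ≫ cokernel.π (imageSubobject (φ.hom.app (op q) ≫
          Y.obj.map (homOfLE hpq).op)).arrow = 0 := by
        have e : π' ≫ π ≫ I.arrow = x' ≫ factorThruImageSubobject (φ.hom.app (op q) ≫
            Y.obj.map (homOfLE hpq).op) ≫ (imageSubobject (φ.hom.app (op q) ≫
            Y.obj.map (homOfLE hpq).op)).arrow := by
          rw [imageSubobject_arrow_comp, reassoc_of% hx', ha]
        rw [← cancel_epi π, ← cancel_epi π', comp_zero, comp_zero, reassoc_of% e,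
          cokernel.condition, comp_zero, comp_zero]
      exact Subobject.le_of_comm (Abelian.monoLift _ _ h0) (Abelian.monoLift_comp _ _ h0)

variable {φ}

theorem StrictStep.comp_of_mono {Z : FilD.FilF A} {ψ : Y ⟶ Z} (h : StrictStep φ) (h' : StrictStep ψ)
    [∀ p, Mono (ψ.hom.app (op p))] : StrictStep (φ ≫ ψ) := by
  intro p T x y hxy
  obtain ⟨T', π, hπ, z, hz⟩ := h' p (x ≫ φ.hom.app (op p)) y (by simpa using hxy)
  obtain ⟨T'', π', hπ', x', hx'⟩ := h p (π ≫ x) z (by
    rw [← cancel_mono (ψ.hom.app (op p))]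
    simp only [Category.assoc, tr_nat]
    rw [reassoc_of% hz, ← hxy]
    rfl)
  refine ⟨T'', π' ≫ π, epi_comp _ _, x', ?_⟩
  change x' ≫ φ.hom.app _ ≫ ψ.hom.app _ = _
  rw [reassoc_of% hx', hz, Category.assoc]

end strict

section mono

variable {X Y : FilD.FilF A} (φ : X ⟶ Y)

/-- A strict monomorphism, in terms of graded pieces. -/
def GrMono : Prop := ∀ p, Mono ((FilD.gr A p).map φ.hom)

variable {φ}

theorem mono_app_of_grMono (h : GrMono φ) : ∀ p, Mono (φ.hom.app (op p)) := by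
  obtain ⟨b, hb⟩ := exists_top X
  refine induction_top b (fun p hp => ⟨fun f g _ => (hb p hp).eq_of_tgt f g⟩) fun p ih => ?_
  refine Preadditive.mono_of_cancel_zero _ fun {T} x hx => ?_
  haveI := h p
  have h0 : x ≫ proj X.obj p = 0 := by
    rw [← cancel_mono ((FilD.gr A p).map φ.hom), Category.assoc, proj_map, reassoc_of% hx]
    simp
  obtain ⟨T', π, hπ, x', hx'⟩ := lift_of_proj_eq_zero x h0
  haveI := ih
  have : x' = 0 := by
    rw [← cancel_mono (φ.hom.app (op (p + 1))),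
      ← cancel_mono (tr Y.obj (Int.le_add_one (le_refl p))), zero_comp, zero_comp, Category.assoc,
      ← tr_nat, ← Category.assoc, ← hx', Category.assoc, hx, comp_zero]
  rw [← cancel_epi π, hx', this, zero_comp, comp_zero]

theorem strictStep_of_grMono (h : GrMono φ) : StrictStep φ := by
  intro p T x y hxy
  haveI := h p
  have h0 : x ≫ proj X.obj p = 0 := by
    rw [← cancel_mono ((FilD.gr A p).map φ.hom), Category.assoc, proj_map, reassoc_of% hxy]
    simp
  obtain ⟨T', π, hπ, x', hx'⟩ := lift_of_proj_eq_zero x h0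
  refine ⟨T', π, hπ, x', ?_⟩
  rw [← cancel_mono (tr Y.obj (Int.le_add_one (le_refl p))), Category.assoc, Category.assoc,
    ← tr_nat, ← hxy, ← Category.assoc, ← hx', Category.assoc]

theorem grMono_of_strictStep (hm : ∀ p, Mono (φ.hom.app (op p))) (h : StrictStep φ) :
    GrMono φ := fun p => by
  refine Preadditive.mono_of_cancel_zero _ fun {T} z hz => ?_
  obtain ⟨T₁, π₁, hπ₁, x, hx⟩ := lift_proj z
  obtain ⟨T₂, π₂, hπ₂, y, hy⟩ := lift_of_proj_eq_zero (x ≫ φ.hom.app (op p)) (by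
    rw [Category.assoc, ← proj_map, ← Category.assoc, ← hx, Category.assoc, hz, comp_zero])
  obtain ⟨T₃, π₃, hπ₃, x', hx'⟩ := h p (π₂ ≫ x) y (by rw [Category.assoc, hy])
  haveI := hm p
  have : π₃ ≫ π₂ ≫ x = x' ≫ tr X.obj (Int.le_add_one le_rfl) := by
    rw [← cancel_mono (φ.hom.app (op p))]
    simp only [Category.assoc]
    rw [tr_nat, hy, reassoc_of% hx']
  rw [← cancel_epi π₁, ← cancel_epi π₂, ← cancel_epi π₃, hx, reassoc_of% this]
  simp

theorem mono_of_mono_app (hm : ∀ p, Mono (φ.hom.app (op p))) : Mono φ := by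
  haveI : ∀ x : ℤᵒᵖ, Mono (φ.hom.app x) := fun x => hm x.unop
  haveI : Mono ((FilD.IsFinFil A).ι.map φ) := NatTrans.mono_of_mono_app φ.hom
  exact (FilD.IsFinFil A).ι.mono_of_mono_map this

variable (φ) in
theorem kernel_lift {T : A} {p : ℤ} (x : T ⟶ X.obj.obj (op p)) (hx : x ≫ φ.hom.app (op p) = 0) :
    ∃ k, k ≫ (kernel.ι φ.hom).app (op p) = x := by
  have hk := isLimitForkMapOfIsLimit' ((evaluation ℤᵒᵖ A).obj (op p)) (kernel.condition φ.hom)
    (kernelIsKernel φ.hom)
  exact ⟨hk.lift (KernelFork.ofι x hx), hk.fac _ WalkingParallelPair.zero⟩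

variable (φ) in
theorem isFinFil_kernel : FilD.IsFinFil A (kernel φ.hom) := by
  haveI hι : ∀ x, Mono ((kernel.ι φ.hom).app x) := fun x => inferInstance
  refine ⟨fun p q f => ?_, ?_, ?_⟩
  · haveI := X.property.1 f
    exact mono_of_mono_fac ((kernel.ι φ.hom).naturality f)
  · obtain ⟨b, hb⟩ := exists_top X
    exact ⟨b, fun p hp => IsZero.of_mono ((kernel.ι φ.hom).app (op p)) (hb p hp)⟩
  · obtain ⟨a, ha⟩ := X.property.2.2
    refine ⟨a, fun p q f hp => ?_⟩
    haveI := ha f hp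
    haveI := X.property.1 f
    haveI : Mono ((kernel φ.hom).map f) := mono_of_mono_fac ((kernel.ι φ.hom).naturality f)
    haveI := Y.property.1 f
    let x := (kernel.ι φ.hom).app q ≫ inv (X.obj.map f)
    obtain ⟨k, hk⟩ := kernel_lift φ (p := p.unop) x (by
      rw [← cancel_mono (Y.obj.map f), zero_comp]
      change (((kernel.ι φ.hom).app q ≫ inv (X.obj.map f)) ≫ φ.hom.app p) ≫ Y.obj.map f = 0
      simp only [Category.assoc, ← φ.hom.naturality, IsIso.inv_hom_id_assoc]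
      rw [← NatTrans.comp_app, kernel.condition]; rfl)
    haveI : IsSplitEpi ((kernel φ.hom).map f) := by
      refine ⟨⟨⟨k, ?_⟩⟩⟩
      rw [← cancel_mono ((kernel.ι φ.hom).app q)]
      have hn := (kernel.ι φ.hom).naturality f
      change (k ≫ (kernel φ.hom).map f) ≫ _ = _
      rw [Category.assoc, hn]
      erw [reassoc_of% hk]
      simp [x]
    exact isIso_of_mono_of_isSplitEpi _

theorem mono_app_of_mono [Mono φ] (p : ℤ) : Mono (φ.hom.app (op p)) := by
  refine Preadditive.mono_of_cancel_zero _ fun {T} x hx => ?_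
  obtain ⟨k, rfl⟩ := kernel_lift φ x hx
  let i : (⟨kernel φ.hom, isFinFil_kernel φ⟩ : FilD.FilF A) ⟶ X :=
    ObjectProperty.homMk (kernel.ι φ.hom)
  have : i = 0 := by
    rw [← cancel_mono φ, zero_comp]
    ext : 1
    exact kernel.condition φ.hom
  have h : (kernel.ι φ.hom).app (op p) = 0 := congrArg (fun j : _ ⟶ X => j.hom.app (op p)) this
  rw [h, comp_zero]

theorem grMono_of_mono [Mono φ] (h : FilD.IsStrict φ) : GrMono φ :=
  grMono_of_strictStep mono_app_of_mono ((isStrict_iff φ).mp h)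

theorem mono_and_isStrict (h : GrMono φ) : Mono φ ∧ FilD.IsStrict φ :=
  ⟨mono_of_mono_app (mono_app_of_grMono h), (isStrict_iff φ).mpr (strictStep_of_grMono h)⟩

end mono

section exact

/-- Exactness on graded pieces gives exactness on all steps and strictness of both maps. -/
theorem of_gr_exact (S : ShortComplex (FilD.FilF A))
    (hS : ∀ p : ℤ, (S.map (FilD.grF A p)).Exact) :
    (∀ p : ℤ, (S.map ((FilD.IsFinFil A).ι ⋙ (evaluation ℤᵒᵖ A).obj (op p))).Exact) ∧
      StrictStep S.f ∧ StrictStep S.g := by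
  have hz : ∀ p, S.f.hom.app (op p) ≫ S.g.hom.app (op p) = 0 := fun p => by
    rw [← NatTrans.comp_app, ← ObjectProperty.FullSubcategory.comp_hom, S.zero]
    rfl
  have key : ∀ p : ℤ, ∀ ⦃T : A⦄ (y : T ⟶ S.X₂.obj.obj (op p)),
      y ≫ proj S.X₂.obj p ≫ (FilD.gr A p).map S.g.hom = 0 →
      ∃ (T' : A) (π : T' ⟶ T) (_ : Epi π) (x : T' ⟶ S.X₁.obj.obj (op p))
        (y' : T' ⟶ S.X₂.obj.obj (op (p + 1))),
        π ≫ y = x ≫ S.f.hom.app (op p) + y' ≫ tr S.X₂.obj (Int.le_add_one le_rfl) := by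
    intro p T y hy
    obtain ⟨T₁, π₁, hπ₁, z, hz'⟩ : ∃ (T₁ : A) (π₁ : T₁ ⟶ T) (_ : Epi π₁)
        (z : T₁ ⟶ (FilD.gr A p).obj S.X₁.obj),
        π₁ ≫ y ≫ proj S.X₂.obj p = z ≫ (FilD.gr A p).map S.f.hom :=
      ((S.map (FilD.grF A p)).exact_iff_exact_up_to_refinements.mp
        (hS p)) (y ≫ proj S.X₂.obj p) (by rw [Category.assoc]; exact hy)
    obtain ⟨T₂, π₂, hπ₂, x, hx⟩ := lift_proj z
    obtain ⟨T₃, π₃, hπ₃, y', hy'⟩ := lift_of_proj_eq_zero
      (π₂ ≫ π₁ ≫ y - x ≫ S.f.hom.app (op p)) (by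
        rw [Preadditive.sub_comp, Category.assoc, Category.assoc, Category.assoc, hz', ← proj_map,
          reassoc_of% hx]
        exact sub_self _)
    refine ⟨T₃, π₃ ≫ π₂ ≫ π₁, inferInstance, π₃ ≫ x, y', ?_⟩
    rw [← hy']
    simp [Preadditive.comp_sub]
  have hex : ∀ p : ℤ, ∀ ⦃T : A⦄ (y : T ⟶ S.X₂.obj.obj (op p)), y ≫ S.g.hom.app (op p) = 0 →
      ∃ (T' : A) (π : T' ⟶ T) (_ : Epi π) (x : T' ⟶ S.X₁.obj.obj (op p)),
        π ≫ y = x ≫ S.f.hom.app (op p) := by
    obtain ⟨b, hb⟩ := exists_top S.X₂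
    refine induction_top b (fun p hp T y _ => ⟨T, 𝟙 T, inferInstance, 0, (hb p hp).eq_of_tgt _ _⟩)
      fun p ih T y hy => ?_
    obtain ⟨T₁, π₁, hπ₁, x, y', he⟩ := key p y (by rw [proj_map, reassoc_of% hy]; simp)
    obtain ⟨T₂, π₂, hπ₂, x', hx'⟩ := ih y' (by
      rw [← cancel_mono (tr S.X₃.obj (Int.le_add_one (le_refl p))), Category.assoc, ← tr_nat,
        zero_comp]
      have := congrArg (· ≫ S.g.hom.app (op p)) he
      simpa [hy, hz] using this.symm)
    refine ⟨T₂, π₂ ≫ π₁, epi_comp _ _, π₂ ≫ x + x' ≫ tr S.X₁.obj (Int.le_add_one le_rfl), ?_⟩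
    rw [Category.assoc, he, Preadditive.comp_add, Preadditive.add_comp, reassoc_of% hx',
      Category.assoc, Category.assoc, tr_nat]
  refine ⟨fun p => (ShortComplex.exact_iff_exact_up_to_refinements _).mpr fun T y hy => hex p y hy,
    ?_, ?_⟩
  · intro p T x y hxy
    obtain ⟨T', π, hπ, x', hx'⟩ := hex (p + 1) y (by
      rw [← cancel_mono (tr S.X₃.obj (Int.le_add_one (le_refl p))), Category.assoc, ← tr_nat,
        ← reassoc_of% hxy, hz, zero_comp, comp_zero])
    exact ⟨T', π, hπ, x', hx'.symm⟩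
  · intro p T y z hyz
    obtain ⟨T', π, hπ, x, y', he⟩ := key p y (by rw [proj_map, reassoc_of% hyz]; simp)
    refine ⟨T', π, hπ, y', ?_⟩
    rw [← cancel_mono (tr S.X₃.obj (Int.le_add_one (le_refl p))), Category.assoc, ← tr_nat,
      Category.assoc, ← hyz]
    have := congrArg (· ≫ S.g.hom.app (op p)) he
    simpa [hz] using this.symm

/-- The kernel criterion for strictness. -/
theorem isStrict_iff_gr_kernel_exact {X Y : FilD.FilF A} (φ : X ⟶ Y) :
    FilD.IsStrict φ ↔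
      ∀ p : ℤ, ((ShortComplex.mk (kernel.ι φ.hom) φ.hom (kernel.condition φ.hom)).map
        (FilD.gr A p)).Exact := by
  have hker : ∀ (p : ℤ) {T : A} (x : T ⟶ X.obj.obj (op p)), x ≫ φ.hom.app (op p) = 0 →
      ∃ k, k ≫ (kernel.ι φ.hom).app (op p) = x := fun p T x hx => by
    have hk := isLimitForkMapOfIsLimit' ((evaluation ℤᵒᵖ A).obj (op p)) (kernel.condition φ.hom)
      (kernelIsKernel φ.hom)
    exact ⟨hk.lift (KernelFork.ofι x hx), hk.fac _ WalkingParallelPair.zero⟩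
  have hk0 : ∀ p : ℤ, (kernel.ι φ.hom).app (op p) ≫ φ.hom.app (op p) = 0 := fun p => by
    rw [← NatTrans.comp_app, kernel.condition]; rfl
  rw [isStrict_iff]
  constructor
  · intro h p
    rw [ShortComplex.exact_iff_exact_up_to_refinements]
    intro T (z : T ⟶ (FilD.gr A p).obj X.obj) (hz : z ≫ (FilD.gr A p).map φ.hom = 0)
    obtain ⟨T₁, π₁, hπ₁, x, hx⟩ := lift_proj z
    obtain ⟨T₂, π₂, hπ₂, y, hy⟩ := lift_of_proj_eq_zero (x ≫ φ.hom.app (op p)) (by
      rw [Category.assoc, ← proj_map, ← Category.assoc, ← hx, Category.assoc]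
      exact (congrArg (π₁ ≫ ·) hz).trans comp_zero)
    obtain ⟨T₃, π₃, hπ₃, x', hx'⟩ := h p (π₂ ≫ x) y (by rw [Category.assoc, hy])
    obtain ⟨k, hk⟩ := hker p (π₃ ≫ π₂ ≫ x - x' ≫ tr X.obj (Int.le_add_one le_rfl)) (by
      rw [Preadditive.sub_comp, Category.assoc, Category.assoc, Category.assoc, tr_nat,
        reassoc_of% hx', hy, sub_self])
    refine ⟨T₃, π₃ ≫ π₂ ≫ π₁, inferInstance, k ≫ proj (kernel φ.hom) p, ?_⟩
    change _ = (k ≫ proj (kernel φ.hom) p) ≫ (FilD.gr A p).map (kernel.ι φ.hom)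
    rw [Category.assoc k, proj_map, ← Category.assoc k, hk]
    simp only [Preadditive.sub_comp, Category.assoc, tr_proj, comp_zero, sub_zero]
    exact congrArg (fun t => π₃ ≫ π₂ ≫ t) hx
  · intro h p T x y hxy
    obtain ⟨T₁, π₁, hπ₁, z, hz⟩ : ∃ (T₁ : A) (π₁ : T₁ ⟶ T) (_ : Epi π₁)
        (z : T₁ ⟶ (FilD.gr A p).obj (kernel φ.hom)),
        π₁ ≫ x ≫ proj X.obj p = z ≫ (FilD.gr A p).map (kernel.ι φ.hom) :=
      ((ShortComplex.exact_iff_exact_up_to_refinements _).mp (h p))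
      (x ≫ proj X.obj p) (by
        change (x ≫ proj X.obj p) ≫ (FilD.gr A p).map φ.hom = 0
        rw [Category.assoc, proj_map, reassoc_of% hxy]; simp)
    obtain ⟨T₂, π₂, hπ₂, k, hk⟩ := lift_proj z
    obtain ⟨T₃, π₃, hπ₃, x', hx'⟩ := lift_of_proj_eq_zero
      (π₂ ≫ π₁ ≫ x - k ≫ (kernel.ι φ.hom).app (op p)) (by
        rw [Preadditive.sub_comp, Category.assoc, Category.assoc, Category.assoc, hz, ← proj_map,
          reassoc_of% hk]
        exact sub_self _)
    refine ⟨T₃, π₃ ≫ π₂ ≫ π₁, inferInstance, x', ?_⟩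
    rw [← cancel_mono (tr Y.obj (Int.le_add_one (le_refl p))), Category.assoc, ← tr_nat,
      ← Category.assoc, ← hx']
    simp [hk0, hxy]

end exact

end Groth.Agent.FilD70
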