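import Groth.Agent.FilD70.Inj

/-!
# Filtered acyclic complexes and filtered injectives
-/

set_option linter.style.haveILetI false

universe v u

open CategoryTheory CategoryTheory.Limits Opposite HomologicalComplex

noncomputable section

attribute [local instance] Limits.HasFiniteBiproducts.of_hasFiniteProducts

namespace Groth.Agent.FilD70

variable {A : Type u} [Category.{v} A] [Abelian A]

theorem sc'_gr_exact {K : CochainComplex (FilD.FilF A) ℤ} (hK : FilD.IsFilteredAcyclic K) (n : ℤ)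
    (p : ℤ) : ((K.sc' (n - 1) n (n + 1)).map (FilD.grF A p)).Exact :=
  (((FilD.grCx p).obj K).exactAt_iff' (n - 1) n (n + 1) (by simp) (by simp)).mp (hK p n)

theorem isZero_obj {X : FilD.FilF A} (h : IsZero X) (p : ℤ) : IsZero (X.obj.obj (op p)) := by
  rw [IsZero.iff_id_eq_zero] at h ⊢
  exact congrArg (fun f : X ⟶ X => f.hom.app (op p)) h

theorem nullhomotopic (K I : CochainComplex (FilD.FilF A) ℤ) (hK : FilD.IsFilteredAcyclic K)
    (a : ℤ) [I.IsStrictlyGE a] (hI : ∀ n, FilD.IsFilteredInjective (I.X n)) (φ : K ⟶ I) :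
    Nonempty (Homotopy φ 0) := by
  classical
  let P : ∀ n : ℤ, (K.X n ⟶ I.X (n - 1)) → Prop := fun n h =>
    K.d (n - 1) n ≫ (φ.f n - h ≫ I.d (n - 1) n) = 0
  have hex : ∀ n h, P n h → ∃ h' : K.X (n + 1) ⟶ I.X (n + 1 - 1), P (n + 1) h' ∧
      K.d n (n + 1) ≫ h' = (φ.f n - h ≫ I.d (n - 1) n) ≫ (I.XIsoOfEq (by omega)).hom := by
    intro n h hn
    have hstrict := (of_gr_exact _ (sc'_gr_exact hK n)).2.2
    have hlev := (of_gr_exact _ (sc'_gr_exact hK n)).1
    obtain ⟨g, hg⟩ := exists_desc (K.d n (n + 1)) hstrict (hI n) (φ.f n - h ≫ I.d (n - 1) n)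
      fun p T x hx => by
        obtain ⟨T', π, hπ, y, hy⟩ : ∃ (T' : A) (π : T' ⟶ T) (_ : Epi π)
            (y : T' ⟶ (K.X (n - 1)).obj.obj (op p)),
            π ≫ x = y ≫ (K.d (n - 1) n).hom.app (op p) :=
          ((ShortComplex.exact_iff_exact_up_to_refinements _).mp (hlev p)) x hx
        have h0 : (K.d (n - 1) n).hom.app (op p) ≫ (φ.f n - h ≫ I.d (n - 1) n).hom.app (op p) = 0 :=
          congrArg (fun f : K.X (n - 1) ⟶ I.X n => f.hom.app (op p)) hn
        rw [← cancel_epi π, comp_zero, ← Category.assoc, hy, Category.assoc, h0, comp_zero]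
    refine ⟨g ≫ (I.XIsoOfEq (by omega)).hom, ?_, by rw [reassoc_of% hg]⟩
    change K.d (n + 1 - 1) (n + 1) ≫ (_ - _) = 0
    obtain ⟨m, hm⟩ : ∃ m, m = n + 1 - 1 := ⟨_, rfl⟩
    have hmn : m = n := by omega
    subst hmn
    rw [← XIsoOfEq_inv_comp_d K (show m = m + 1 - 1 by omega) (m + 1)]
    rw [Category.assoc, Preadditive.comp_sub, Category.assoc, XIsoOfEq_hom_comp_d, ← Category.assoc
      (K.d m (m + 1)) g, hg, Preadditive.sub_comp, Category.assoc, I.d_comp_d, comp_zero, sub_zero,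
      φ.comm, sub_self, comp_zero]
  have hzero : ∀ n, n ≤ a → P n 0 := fun n hn => by
    change K.d _ _ ≫ (_ - _) = 0
    rw [zero_comp, sub_zero, ← φ.comm,
      (I.isZero_of_isStrictlyGE a (n - 1) (by omega)).eq_of_tgt (φ.f _) 0, zero_comp]
  let T : ∀ n, {h // P n h} := fun n => Int.inductionOn' (motive := fun n => {h // P n h}) n a
    ⟨0, hzero a le_rfl⟩ (fun k _ h => ⟨_, (hex k h.1 h.2).choose_spec.1⟩)
    (fun k hk _ => ⟨0, hzero (k - 1) (by omega)⟩)
  have hT : ∀ n, K.d n (n + 1) ≫ (T (n + 1)).1 =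
      (φ.f n - (T n).1 ≫ I.d (n - 1) n) ≫ (I.XIsoOfEq (by omega)).hom := fun n => by
    by_cases hn : a ≤ n
    · simp only [T]
      rw [Int.inductionOn'_add_one hn]
      exact (hex n (T n).1 (T n).2).choose_spec.2
    · have hz : IsZero (I.X (n + 1 - 1)) := I.isZero_of_isStrictlyGE a _ (by omega)
      exact hz.eq_of_tgt _ _
  refine ⟨⟨fun i j => if h : j + 1 = i then (T i).1 ≫ (I.XIsoOfEq (by omega)).hom else 0,
    fun i j h => dif_neg h, fun n => ?_⟩⟩
  rw [dNext_eq _ (show (ComplexShape.up ℤ).Rel n (n + 1) from rfl),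
    prevD_eq _ (show (ComplexShape.up ℤ).Rel (n - 1) n by simp), dif_pos rfl,
    dif_pos (show n - 1 + 1 = n by omega), reassoc_of% hT n]
  simp

variable {K L : CochainComplex (FilD.FilF A) ℤ}

theorem filteredAcyclic_cone (α : K ⟶ L) (hα : FilD.IsFilteredQuasiIso α) :
    FilD.IsFilteredAcyclic (CochainComplex.mappingCone α) := fun p n => by
  let β := (FilD.grCx p).map α
  have hq : QuasiIso β := hα p
  have h1 := (HomotopyCategory.subcategoryAcyclic A).trW_iff_of_distinguished _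
    (HomotopyCategory.mappingCone_triangleh_distinguished β)
  rw [← HomotopyCategory.quasiIso_eq_trW_subcategoryAcyclic] at h1
  have h2 := h1.mp ((HomotopyCategory.quotient_map_mem_quasiIso_iff β).mpr
    ((HomologicalComplex.mem_quasiIso_iff β).mpr hq))
  have h3 : (CochainComplex.mappingCone β).Acyclic :=
    (HomotopyCategory.quotient_obj_mem_subcategoryAcyclic_iff_acyclic _).mp h2
  exact (h3 n).of_iso (CochainComplex.mappingCone.mapHomologicalComplexIso α (FilD.grF A p)).symm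

/-- Precomposition with a filtered quasi-isomorphism. -/
theorem precomp_bijective (I : CochainComplex (FilD.FilF A) ℤ)
    (a : ℤ) [I.IsStrictlyGE a] (hI : ∀ n, FilD.IsFilteredInjective (I.X n))
    (α : K ⟶ L) (hα : FilD.IsFilteredQuasiIso α) :
    Function.Bijective (fun β : (HomotopyCategory.quotient (FilD.FilF A) (ComplexShape.up ℤ)).obj L ⟶
        (HomotopyCategory.quotient (FilD.FilF A) (ComplexShape.up ℤ)).obj I =>
      (HomotopyCategory.quotient (FilD.FilF A) (ComplexShape.up ℤ)).map α ≫ β) := by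
  have hC := filteredAcyclic_cone α hα
  let Q := HomotopyCategory.quotient (FilD.FilF A) (ComplexShape.up ℤ)
  have hvan : ∀ (J : CochainComplex (FilD.FilF A) ℤ) (b : ℤ) [J.IsStrictlyGE b],
      (∀ n, FilD.IsFilteredInjective (J.X n)) →
      ∀ f : Q.obj (CochainComplex.mappingCone α) ⟶ Q.obj J, f = 0 := by
    intro J b _ hJ f
    obtain ⟨f, rfl⟩ := Q.map_surjective f
    obtain ⟨h⟩ := nullhomotopic _ J hC b hJ f
    rw [HomotopyCategory.eq_of_homotopy _ _ h, Functor.map_zero]
  have hT := HomotopyCategory.mappingCone_triangleh_distinguished α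
  refine ⟨fun β β' he => ?_, fun γ => ?_⟩
  · rw [← sub_eq_zero]
    obtain ⟨g, hg⟩ := Pretriangulated.Triangle.yoneda_exact₂ _ hT (β - β') (by
      change Q.map α ≫ (β - β') = 0
      rw [Preadditive.comp_sub]; exact sub_eq_zero.mpr he)
    rw [hg, hvan I a hI g]
    exact comp_zero
  · haveI := I.isStrictlyGE_shift a 1 (a - 1) (by omega)
    have hI1 : ∀ n, FilD.IsFilteredInjective (((shiftFunctor (CochainComplex (FilD.FilF A) ℤ) (1 : ℤ)).obj I).X n) :=
      fun n => hI (n + 1)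
    let f : (Q.obj K)⟦(1 : ℤ)⟧ ⟶ (Q.obj I)⟦(1 : ℤ)⟧ := (shiftFunctor (HomotopyCategory (FilD.FilF A) (ComplexShape.up ℤ)) (1 : ℤ)).map γ
    obtain ⟨g, hg⟩ := Pretriangulated.Triangle.yoneda_exact₃ _
      (Pretriangulated.rot_of_distTriang _ hT) f (by
        let e := (Q.commShiftIso (1 : ℤ)).app I
        rw [← cancel_mono e.inv, zero_comp]
        exact hvan _ (a - 1) hI1 _)
    let S1 := shiftFunctor (HomotopyCategory (FilD.FilF A) (ComplexShape.up ℤ)) (1 : ℤ)
    obtain ⟨β, hβ⟩ : ∃ β : Q.obj L ⟶ Q.obj I, S1.map β = g := S1.map_surjective g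
    refine ⟨-β, S1.map_injective ?_⟩
    change S1.map (Q.map α ≫ (-β)) = S1.map γ
    rw [Functor.map_comp, Functor.map_neg, Preadditive.comp_neg, ← Preadditive.neg_comp, hβ]
    exact hg.symm

end Groth.Agent.FilD70
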