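import Groth.Agent.FilD70.Basic

/-!
# Finite filtered objects: biproducts, cokernels, filtered injectives
-/

set_option linter.style.haveILetI false

universe v u

open CategoryTheory CategoryTheory.Limits Opposite

noncomputable section

attribute [local instance] Limits.HasFiniteBiproducts.of_hasFiniteProducts

namespace Groth.Agent.FilD70

variable {A : Type u} [Category.{v} A] [Abelian A]

section biprod

theorem biprod_app_total {F G : ℤᵒᵖ ⥤ A} (x : ℤᵒᵖ) :
    (biprod.fst : F ⊞ G ⟶ F).app x ≫ (biprod.inl : F ⟶ F ⊞ G).app x +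
      (biprod.snd : F ⊞ G ⟶ G).app x ≫ (biprod.inr : G ⟶ F ⊞ G).app x = 𝟙 _ := by
  rw [← NatTrans.comp_app, ← NatTrans.comp_app, ← NatTrans.app_add, biprod.total]
  rfl

theorem isFinFil_biprod (X Y : FilD.FilF A) : FilD.IsFinFil A (X.obj ⊞ Y.obj) := by
  refine ⟨fun p q f => ?_, ?_, ?_⟩
  · refine Preadditive.mono_of_cancel_zero _ fun {T} x hx => ?_
    haveI := X.property.1 f
    haveI := Y.property.1 f
    have h1 : x ≫ (biprod.fst : X.obj ⊞ Y.obj ⟶ X.obj).app p = 0 := by
      rw [← cancel_mono (X.obj.map f), Category.assoc, ← NatTrans.naturality, reassoc_of% hx]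
      simp
    have h2 : x ≫ (biprod.snd : X.obj ⊞ Y.obj ⟶ Y.obj).app p = 0 := by
      rw [← cancel_mono (Y.obj.map f), Category.assoc, ← NatTrans.naturality, reassoc_of% hx]
      simp
    rw [← Category.comp_id x, ← biprod_app_total, Preadditive.comp_add, reassoc_of% h1,
      reassoc_of% h2]
    simp
  · obtain ⟨b, hb⟩ := exists_top X
    obtain ⟨b', hb'⟩ := exists_top Y
    refine ⟨max b b', fun p hp => ?_⟩
    rw [IsZero.iff_id_eq_zero, ← biprod_app_total,
      (hb p (by omega)).eq_of_tgt ((biprod.fst : X.obj ⊞ Y.obj ⟶ X.obj).app _) 0,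
      (hb' p (by omega)).eq_of_tgt ((biprod.snd : X.obj ⊞ Y.obj ⟶ Y.obj).app _) 0]
    simp
  · obtain ⟨a, ha⟩ := X.property.2.2
    obtain ⟨a', ha'⟩ := Y.property.2.2
    refine ⟨min a a', fun p q f hp => ?_⟩
    haveI := ha f (by omega)
    haveI := ha' f (by omega)
    refine ⟨(biprod.fst : X.obj ⊞ Y.obj ⟶ X.obj).app q ≫ inv (X.obj.map f) ≫
        (biprod.inl : X.obj ⟶ X.obj ⊞ Y.obj).app p +
      (biprod.snd : X.obj ⊞ Y.obj ⟶ Y.obj).app q ≫ inv (Y.obj.map f) ≫
        (biprod.inr : Y.obj ⟶ X.obj ⊞ Y.obj).app p, ?_, ?_⟩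
    · rw [Preadditive.comp_add, NatTrans.naturality_assoc, NatTrans.naturality_assoc,
        IsIso.hom_inv_id_assoc, IsIso.hom_inv_id_assoc, biprod_app_total]
    · simp only [Preadditive.add_comp, Category.assoc, ← NatTrans.naturality,
        IsIso.inv_hom_id_assoc, biprod_app_total]

/-- The biproduct bicone in `FilF A`. -/
def bicone (X Y : FilD.FilF A) : BinaryBicone X Y where
  pt := ⟨X.obj ⊞ Y.obj, isFinFil_biprod X Y⟩
  fst := ObjectProperty.homMk biprod.fst
  snd := ObjectProperty.homMk biprod.snd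
  inl := ObjectProperty.homMk biprod.inl
  inr := ObjectProperty.homMk biprod.inr
  inl_fst := by ext : 1; exact biprod.inl_fst
  inl_snd := by ext : 1; exact biprod.inl_snd
  inr_fst := by ext : 1; exact biprod.inr_fst
  inr_snd := by ext : 1; exact biprod.inr_snd

instance hasBinaryBiproducts : HasBinaryBiproducts (FilD.FilF A) where
  has_binary_biproduct X Y := HasBinaryBiproduct.mk
    ⟨bicone X Y, isBinaryBilimitOfTotal _ (by ext : 1; exact biprod.total)⟩

end biprod

section coker

variable {X Y : FilD.FilF A} (φ : X ⟶ Y)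

theorem cokernel_exact (p : ℤ) :
    (ShortComplex.mk (φ.hom.app (op p)) ((cokernel.π φ.hom).app (op p))
      (by rw [← NatTrans.comp_app, cokernel.condition]; rfl)).Exact :=
  ShortComplex.exact_of_g_is_cokernel _ (isColimitCoforkMapOfIsColimit'
    ((evaluation ℤᵒᵖ A).obj (op p)) (cokernel.condition φ.hom) (cokernelIsCokernel φ.hom))

theorem isFinFil_cokernel (h : StrictStep φ) : FilD.IsFinFil A (cokernel φ.hom) := by
  haveI : ∀ x, Epi ((cokernel.π φ.hom).app x) := fun x => inferInstance
  have hmono : ∀ (p q : ℤ) (hpq : p ≤ q), Mono (tr (cokernel φ.hom) hpq) := fun p q hpq => by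
    refine Preadditive.mono_of_cancel_zero _ fun {T} z hz => ?_
    obtain ⟨T₁, π₁, hπ₁, y, hy⟩ :=
      surjective_up_to_refinements_of_epi ((cokernel.π φ.hom).app (op q)) z
    obtain ⟨T₂, π₂, hπ₂, x, hx⟩ := ((ShortComplex.exact_iff_exact_up_to_refinements _).mp
      (cokernel_exact φ p)) (y ≫ tr Y.obj hpq) (by
        change (y ≫ tr Y.obj hpq) ≫ (cokernel.π φ.hom).app (op p) = 0
        rw [Category.assoc, tr_nat, ← reassoc_of% hy, hz, comp_zero])
    change π₂ ≫ y ≫ tr Y.obj hpq = x ≫ φ.hom.app (op p) at hx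
    obtain ⟨T₃, π₃, hπ₃, x', hx'⟩ := exists_lift_of_le φ h (q - p).toNat p q hpq (by omega) x
      (π₂ ≫ y) (by rw [Category.assoc, hx])
    have h0 : (φ.hom.app (op q)) ≫ (cokernel.π φ.hom).app (op q) = 0 := by
      rw [← NatTrans.comp_app, cokernel.condition]; rfl
    rw [← cancel_epi π₁, ← cancel_epi π₂, ← cancel_epi π₃, hy, comp_zero, comp_zero, comp_zero,
      ← Category.assoc π₂, ← Category.assoc π₃, ← hx', Category.assoc, h0, comp_zero]
  refine ⟨fun p q f => hmono q.unop p.unop (leOfHom f.unop), ?_, ?_⟩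
  · obtain ⟨b, hb⟩ := exists_top Y
    exact ⟨b, fun p hp => IsZero.of_epi ((cokernel.π φ.hom).app (op p)) (hb p hp)⟩
  · obtain ⟨a, ha⟩ := Y.property.2.2
    refine ⟨a, fun p q f hp => ?_⟩
    haveI := ha f hp
    haveI : Mono ((cokernel φ.hom).map f) := hmono q.unop p.unop (leOfHom f.unop)
    haveI : Epi ((cokernel φ.hom).map f) := by
      haveI : Epi ((cokernel.π φ.hom).app p ≫ (cokernel φ.hom).map f) := by
        rw [← NatTrans.naturality]; infer_instance
      exact epi_of_epi ((cokernel.π φ.hom).app p) _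
    exact isIso_of_mono_of_epi _

end coker

section injective

variable {I : FilD.FilF A}

theorem injective_obj (hI : FilD.IsFilteredInjective I) : ∀ p, Injective (I.obj.obj (op p)) := by
  obtain ⟨b, hb⟩ := exists_top I
  refine induction_top b (fun p hp => ⟨fun g f _ => ⟨0, (hb p hp).eq_of_tgt _ _⟩⟩) fun p ih => ?_
  haveI : Injective ((FilD.gr A p).obj I.obj) := hI p
  let r := Injective.factorThru (𝟙 _) (tr I.obj (Int.le_add_one (le_refl p)))
  have hr : tr I.obj (Int.le_add_one (le_refl p)) ≫ r = 𝟙 _ := Injective.comp_factorThru _ _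
  let s : (FilD.gr A p).obj I.obj ⟶ I.obj.obj (op p) :=
    cokernel.desc _ (𝟙 _ - r ≫ tr I.obj (Int.le_add_one (le_refl p))) (by
      rw [stepHom_eq, Preadditive.comp_sub, Category.comp_id, reassoc_of% hr, sub_self])
  refine ⟨fun {T U} g f _ => ⟨Injective.factorThru (g ≫ r) f ≫ tr I.obj (Int.le_add_one le_rfl) +
    Injective.factorThru (g ≫ proj I.obj p) f ≫ s, ?_⟩⟩
  rw [Preadditive.comp_add, Injective.comp_factorThru_assoc, Injective.comp_factorThru_assoc]
  have : proj I.obj p ≫ s = 𝟙 _ - r ≫ tr I.obj (Int.le_add_one (le_refl p)) := cokernel.π_desc _ _ _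
  simp only [Category.assoc]
  rw [this, Preadditive.comp_sub]
  simp

/-- Descent along a strict morphism into a filtered injective object. -/
theorem exists_desc {X Y : FilD.FilF A} (u : X ⟶ Y) (hu : StrictStep u)
    (hI : FilD.IsFilteredInjective I) (f : X ⟶ I)
    (hf : ∀ (p : ℤ) ⦃T : A⦄ (x : T ⟶ X.obj.obj (op p)),
      x ≫ u.hom.app (op p) = 0 → x ≫ f.hom.app (op p) = 0) :
    ∃ g : Y ⟶ I, u ≫ g = f := by
  classical
  obtain ⟨b, hb⟩ := exists_top Y
  have fam : ∀ n : ℕ, ∃ g : ∀ p : ℤ, b - n ≤ p → (Y.obj.obj (op p) ⟶ I.obj.obj (op p)),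
      (∀ (p q : ℤ) (hp : b - n ≤ p) (hpq : p ≤ q),
        tr Y.obj hpq ≫ g p hp = g q (hp.trans hpq) ≫ tr I.obj hpq) ∧
      ∀ (p : ℤ) (hp : b - n ≤ p), u.hom.app (op p) ≫ g p hp = f.hom.app (op p) := by
    intro n
    induction n with
    | zero =>
      refine ⟨fun p _ => 0, fun p q _ _ => by simp, fun p hp => ?_⟩
      have := hf p (𝟙 _) ((hb p (by simpa using hp)).eq_of_tgt _ _)
      simpa using this.symm
    | succ n ih =>
      obtain ⟨g, hg, hgf⟩ := ih
      let p₀ : ℤ := b - (n + 1 : ℕ)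
      have h1 : b - (n : ℤ) ≤ p₀ + 1 := by simp only [p₀]; omega
      let h := biprod.desc (u.hom.app (op p₀)) (tr Y.obj (Int.le_add_one (le_refl p₀)))
      let k₀ := biprod.desc (f.hom.app (op p₀))
        (g (p₀ + 1) h1 ≫ tr I.obj (Int.le_add_one (le_refl p₀)))
      have hk : kernel.ι h ≫ k₀ = 0 := by
        obtain ⟨x, y, hi⟩ : ∃ x y, kernel.ι h = x ≫ biprod.inl + y ≫ biprod.inr :=
          ⟨kernel.ι h ≫ biprod.fst, kernel.ι h ≫ biprod.snd, by
            simp only [Category.assoc, ← Preadditive.comp_add, biprod.total, Category.comp_id]⟩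
        have e : x ≫ u.hom.app (op p₀) + y ≫ tr Y.obj (Int.le_add_one (le_refl p₀)) = 0 := by
          have := kernel.condition h
          rw [hi] at this
          simpa [h] using this
        obtain ⟨T', π, hπ, x', hx'⟩ := hu p₀ x (-y)
          (by rw [Preadditive.neg_comp]; exact eq_neg_of_add_eq_zero_left e)
        have h0 := hf p₀ (π ≫ x - x' ≫ tr X.obj (Int.le_add_one le_rfl)) (by
          simp only [Preadditive.sub_comp, Category.assoc, tr_nat]
          rw [reassoc_of% hx', eq_neg_of_add_eq_zero_left e]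
          simp)
        simp only [Preadditive.sub_comp, Category.assoc, tr_nat, sub_eq_zero] at h0
        rw [← hgf (p₀ + 1) h1] at h0
        simp only [Category.assoc] at h0
        rw [reassoc_of% hx'] at h0
        rw [← cancel_epi π, comp_zero, hi]
        simp [k₀, h0]
      haveI := injective_obj hI p₀
      let S := ShortComplex.mk (kernel.ι h) h (kernel.condition h)
      have hS : S.Exact := ShortComplex.exact_of_f_is_kernel _ (kernelIsKernel h)
      obtain ⟨k, hkk⟩ : ∃ k, h ≫ k = k₀ := ⟨hS.descToInjective k₀ hk, hS.comp_descToInjective k₀ hk⟩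
      have hk1 : u.hom.app (op p₀) ≫ k = f.hom.app (op p₀) := by
        simpa [h, k₀] using congrArg (biprod.inl ≫ ·) hkk
      have hk2 : tr Y.obj (Int.le_add_one (le_refl p₀)) ≫ k =
          g (p₀ + 1) h1 ≫ tr I.obj (Int.le_add_one (le_refl p₀)) := by
        simpa [h, k₀] using congrArg (biprod.inr ≫ ·) hkk
      refine ⟨fun p hp => if e : p = p₀ then e ▸ k else g p (by simp only [p₀] at e; omega),
        fun p q hp hpq => ?_, fun p hp => ?_⟩
      · by_cases e : p = p₀
        · subst e
          by_cases e' : q = p₀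
          · subst e'; simp [tr_refl]
          · have h2 : p₀ + 1 ≤ q := by omega
            simp only [dif_pos, dif_neg e']
            rw [← tr_comp Y.obj (Int.le_add_one (le_refl p₀)) h2, Category.assoc, hk2,
              ← Category.assoc, hg (p₀ + 1) q h1 h2, Category.assoc, tr_comp]
        · have e' : q ≠ p₀ := by simp only [p₀] at e ⊢; omega
          simp only [dif_neg e, dif_neg e']
          exact hg p q _ hpq
      · by_cases e : p = p₀
        · subst e; simpa using hk1
        · simp only [dif_neg e]; exact hgf p _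
  obtain ⟨a₁, ha₁⟩ := exists_bot Y
  obtain ⟨a₃, ha₃⟩ := exists_bot X
  let a := min a₁ a₃
  obtain ⟨g, hg, hgf⟩ := fam (b - a).toNat
  have hga : b - ((b - a).toNat : ℤ) ≤ a := by have := Int.self_le_toNat (b - a); omega
  haveI hiY : ∀ (p : ℤ) (hp : p ≤ a), IsIso (tr Y.obj hp) := fun p hp => ha₁ _ _ hp (min_le_left _ _)
  haveI hiX : ∀ (p : ℤ) (hp : p ≤ a), IsIso (tr X.obj hp) := fun p hp => ha₃ _ _ hp (min_le_right _ _)
  let G : ∀ p, Y.obj.obj (op p) ⟶ I.obj.obj (op p) := fun p =>
    if hp : p ≤ a then inv (tr Y.obj hp) ≫ g a hga ≫ tr I.obj hp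
    else g p (hga.trans (le_of_lt (not_le.mp hp)))
  have hG : ∀ p (hp : a ≤ p), G p = g p (hga.trans hp) := fun p hp => by
    by_cases hpa : p ≤ a
    · obtain rfl : p = a := le_antisymm hpa hp
      simp only [G, dif_pos hpa]
      rw [IsIso.inv_comp_eq]
      exact (hg _ _ hga hpa).symm
    · simp only [G, dif_neg hpa]
  have hG' : ∀ p (hp : p ≤ a), tr Y.obj hp ≫ G p = G a ≫ tr I.obj hp := fun p hp => by
    rw [hG a le_rfl]
    simp [G, hp]
  refine ⟨ObjectProperty.homMk (natMk G fun p q hpq => ?_), ?_⟩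
  · by_cases hq : q ≤ a
    · rw [← cancel_epi (tr Y.obj hq), ← Category.assoc, tr_comp, hG' p (hpq.trans hq),
        reassoc_of% hG' q hq, tr_comp]
    · have hq' : a ≤ q := le_of_lt (not_le.mp hq)
      by_cases hp : p ≤ a
      · rw [← tr_comp Y.obj hp hq', Category.assoc, hG' p hp, ← Category.assoc,
          show tr Y.obj hq' ≫ G a = G q ≫ tr I.obj hq' by
            rw [hG a le_rfl, hG q hq']; exact hg _ _ _ hq',
          Category.assoc, tr_comp]
      · rw [hG p (le_of_lt (not_le.mp hp)), hG q hq']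
        exact hg _ _ _ hpq
  · ext q
    change u.hom.app (op q.unop) ≫ G q.unop = f.hom.app (op q.unop)
    by_cases hp : q.unop ≤ a
    · rw [← cancel_epi (tr X.obj hp), ← Category.assoc, tr_nat, Category.assoc, hG' _ hp,
        tr_nat, ← Category.assoc, hG a le_rfl, hgf]
    · rw [hG _ (le_of_lt (not_le.mp hp))]
      exact hgf _ _

theorem exists_desc_of_grMono {X Y : FilD.FilF A} (u : X ⟶ Y) (hu : GrMono u)
    (hI : FilD.IsFilteredInjective I) (f : X ⟶ I) : ∃ g : Y ⟶ I, u ≫ g = f :=
  exists_desc u (strictStep_of_grMono hu) hI f fun p T x hx => by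
    haveI := mono_app_of_grMono hu p
    rw [(cancel_mono (u.hom.app (op p))).mp (hx.trans zero_comp.symm), zero_comp]

/-- Enough filtered injectives. -/
theorem exists_grMono_into [EnoughInjectives A] (X : FilD.FilF A) :
    ∃ (I : FilD.FilF A) (u : X ⟶ I), FilD.IsFilteredInjective I ∧ GrMono u := by
  classical
  obtain ⟨b, hb⟩ := exists_top X
  obtain ⟨a, ha⟩ := exists_bot X
  let n := (b - a).toNat
  let J : Fin n → A := fun i =>
    Injective.under (cokernel (tr X.obj (show a ≤ a + i + 1 by omega)))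
  let w : ∀ i : Fin n, X.obj.obj (op a) ⟶ J i := fun i =>
    cokernel.π (tr X.obj (show a ≤ a + i + 1 by omega)) ≫ Injective.ι _
  let obj : ℤ → A := fun q => ⨁ fun i : {i : Fin n // q ≤ a + i} => J i.1
  let π : ∀ (q : ℤ) (i : {i : Fin n // q ≤ a + i}), obj q ⟶ J i.1 := fun q i => biproduct.π _ i
  let m : ∀ (p q : ℤ), obj q ⟶ obj p := fun p q =>
    biproduct.lift fun i => if h : q ≤ a + i.1 then π q ⟨i.1, h⟩ else 0
  have hm : ∀ p q i, m p q ≫ π p i = if h : q ≤ a + i.1 then π q ⟨i.1, h⟩ else 0 :=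
    fun p q i => biproduct.lift_π _ _
  let F : ℤᵒᵖ ⥤ A :=
    { obj := fun x => obj x.unop
      map := fun {x y} _ => m y.unop x.unop
      map_id := fun x => biproduct.hom_ext _ _ fun i => by
        refine (hm _ _ i).trans ?_
        rw [dif_pos i.2]
        exact (Category.id_comp _).symm
      map_comp := fun {x y z} f g => biproduct.hom_ext _ _ fun i => by
        refine (hm _ _ i).trans ?_
        rw [Category.assoc]
        erw [hm]
        by_cases h : y.unop ≤ a + i.1
        · rw [dif_pos h]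
          exact (hm _ _ ⟨i.1, h⟩).symm
        · rw [dif_neg h, dif_neg fun h' => h ((leOfHom f.unop).trans h')]
          exact comp_zero.symm }
  have hF : ∀ (p q : ℤ) (hpq : p ≤ q), tr F hpq ≫ m q p = 𝟙 _ := fun p q hpq =>
    biproduct.hom_ext _ _ fun i => by
      change (m p q ≫ m q p) ≫ π q i = _
      rw [Category.assoc, hm, dif_pos (hpq.trans i.2)]
      rw [hm, dif_pos i.2]
      exact (Category.id_comp _).symm
  have hfin : FilD.IsFinFil A F := by
    refine ⟨fun x y f => (SplitMono.mk (m x.unop y.unop) (hF y.unop x.unop (leOfHom f.unop))).mono,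
      ⟨b, fun p hp => ?_⟩, ⟨a, fun x y f hx => ?_⟩⟩
    · rw [IsZero.iff_id_eq_zero]
      refine biproduct.hom_ext _ _ fun i => ?_
      exact absurd (show p ≤ a + i.1 from i.2) (by have := i.1.2; simp only [n] at this; omega)
    · refine ⟨m x.unop y.unop, hF y.unop x.unop (leOfHom f.unop), biproduct.hom_ext _ _ fun i => ?_⟩
      change (m x.unop y.unop ≫ m y.unop x.unop) ≫ π y.unop i = _
      rw [Category.assoc, hm, dif_pos (hx.trans (by omega)), hm, dif_pos i.2]
      exact (Category.id_comp _).symm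
  haveI hisoX : ∀ q : ℤ, IsIso (tr X.obj (min_le_right q a)) := fun q => ha _ _ _ le_rfl
  let e : ∀ q, X.obj.obj (op q) ⟶ X.obj.obj (op a) := fun q =>
    tr X.obj (min_le_left q a) ≫ inv (tr X.obj (min_le_right q a))
  have he : ∀ p q (hpq : p ≤ q), tr X.obj hpq ≫ e p = e q := fun p q hpq => by
    simp only [e, ← Category.assoc, IsIso.comp_inv_eq]
    simp only [Category.assoc]
    rw [tr_comp, ← tr_comp X.obj (show min p a ≤ min q a by omega) (min_le_left q a),
      ← tr_comp X.obj (show min p a ≤ min q a by omega) (min_le_right q a), IsIso.inv_hom_id_assoc]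
  have he' : ∀ q (hq : a ≤ q), e q = tr X.obj hq := fun q hq => by
    rw [← he a q hq]
    have : e a = 𝟙 _ := by simp [e]
    rw [this, Category.comp_id]
  let v : ∀ q, X.obj.obj (op q) ⟶ obj q := fun q => biproduct.lift fun i => e q ≫ w i.1
  have hv : ∀ q i, v q ≫ π q i = e q ≫ w i.1 := fun q i => biproduct.lift_π _ _
  let u : X ⟶ (⟨F, hfin⟩ : FilD.FilF A) := ObjectProperty.homMk (natMk v fun p q hpq =>
    biproduct.hom_ext _ _ fun i => by
      change (_ ≫ v p) ≫ π p i = (v q ≫ m p q) ≫ π p i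
      simp only [Category.assoc]
      rw [hv, hm, ← Category.assoc, he p q hpq]
      by_cases h : q ≤ a + i.1
      · rw [dif_pos h, hv]
      · rw [dif_neg h, comp_zero]
        have hw : tr X.obj (show a ≤ a + i.1 + 1 by omega) ≫ w i.1 = 0 := by
          simp only [w, cokernel.condition_assoc, zero_comp]
        rw [he' q (by omega), ← tr_comp X.obj (show a ≤ a + i.1 + 1 by omega)
          (show a + i.1 + 1 ≤ q by omega), Category.assoc, hw, comp_zero])
  refine ⟨⟨F, hfin⟩, u, fun p => ?_, fun p => ?_⟩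
  · let s : (FilD.gr A p).obj F ⟶ F.obj (op p) :=
      cokernel.desc _ (𝟙 _ - m (p + 1) p ≫ tr F (Int.le_add_one (le_refl p))) (by
        rw [stepHom_eq, Preadditive.comp_sub, Category.comp_id, ← Category.assoc,
          hF p (p + 1) (Int.le_add_one le_rfl)]
        simp)
    have hs : s ≫ proj F p = 𝟙 _ := by
      rw [← cancel_epi (proj F p)]
      change proj F p ≫ cokernel.desc _ _ _ ≫ proj F p = _
      erw [cokernel.π_desc_assoc]
      rw [Preadditive.sub_comp, Category.assoc]
      erw [cokernel.condition, comp_zero, sub_zero, Category.id_comp, Category.comp_id]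
    haveI : Injective (F.obj (op p)) := by
      change Injective (⨁ fun i : {i : Fin n // p ≤ a + i} => J i.1)
      infer_instance
    change Injective ((FilD.gr A p).obj F)
    exact ⟨fun {T U} g f _ => ⟨Injective.factorThru (g ≫ s) f ≫ proj F p, by
      rw [Injective.comp_factorThru_assoc, Category.assoc, hs, Category.comp_id]⟩⟩
  · refine Preadditive.mono_of_cancel_zero _ fun {T} (z : T ⟶ (FilD.gr A p).obj X.obj) hz => ?_
    obtain ⟨T₁, π₁, hπ₁, x, hx⟩ := lift_proj z
    suffices h : x ≫ proj X.obj p = 0 by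
      rw [← cancel_epi π₁, hx, h, comp_zero]
    by_cases hpa : p < a
    · haveI : IsIso (tr X.obj (Int.le_add_one (le_refl p))) := ha _ _ _ (by omega)
      rw [← Category.id_comp (proj X.obj p),
        ← IsIso.inv_hom_id (tr X.obj (Int.le_add_one (le_refl p))), Category.assoc, tr_proj]
      simp
    by_cases hpb : b ≤ p
    · rw [(hb p hpb).eq_of_tgt x 0, zero_comp]
    let i : Fin n := ⟨(p - a).toNat, by simp only [n]; omega⟩
    have hip : a + (i : ℤ) = p := by simp only [i]; omega
    obtain ⟨T₂, π₂, hπ₂, y, hy⟩ := lift_of_proj_eq_zero (F := F) (x ≫ v p) (by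
      rw [Category.assoc]
      have := proj_map u.hom p
      change proj X.obj p ≫ _ = v p ≫ proj F p at this
      rw [← this, ← Category.assoc, ← hx, Category.assoc]
      exact (congrArg (π₁ ≫ ·) hz).trans comp_zero)
    have hw0 : π₂ ≫ x ≫ e p ≫ cokernel.π (tr X.obj (show a ≤ a + i + 1 by omega)) = 0 := by
      rw [← cancel_mono (Injective.ι _), zero_comp]
      simp only [Category.assoc]
      change π₂ ≫ x ≫ e p ≫ w i = 0
      rw [← hv p ⟨i, hip.ge⟩, ← Category.assoc x, ← Category.assoc π₂, hy, Category.assoc]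
      change y ≫ m p (p + 1) ≫ π p ⟨i, hip.ge⟩ = 0
      rw [hm, dif_neg (by simp only; omega), comp_zero]
    obtain ⟨T₃, π₃, hπ₃, x', hx'⟩ := (ShortComplex.exact_iff_exact_up_to_refinements _).mp
      (ShortComplex.exact_of_g_is_cokernel
        (ShortComplex.mk (tr X.obj (show a ≤ a + i + 1 by omega)) (cokernel.π _)
          (cokernel.condition _)) (cokernelIsCokernel _)) (π₂ ≫ x ≫ e p) (by simpa using hw0)
    change π₃ ≫ π₂ ≫ x ≫ e p = x' ≫ tr X.obj _ at hx'
    have hx'' : π₃ ≫ π₂ ≫ x = x' ≫ tr X.obj (show p ≤ a + i + 1 by omega) := by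
      rw [← cancel_mono (tr X.obj (show a ≤ p by omega))]
      simp only [Category.assoc, tr_comp]
      rwa [he' p (by omega)] at hx'
    rw [← cancel_epi π₂, ← cancel_epi π₃, comp_zero, comp_zero, reassoc_of% hx'',
      tr_proj_of_lt _ (by omega), comp_zero]

end injective

end Groth.Agent.FilD70
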