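import Groth.Agent.FilD70.Trunc

/-!
# Filtered injective resolutions
-/

set_option linter.style.haveILetI false

universe v u

open CategoryTheory CategoryTheory.Limits Opposite HomologicalComplex ZeroObject
open CochainComplex CochainComplex.HomComplex

noncomputable section

attribute [local instance] Limits.HasFiniteBiproducts.of_hasFiniteProducts

namespace Groth.Agent.FilD70

variable {A : Type u} [Category.{v} A] [Abelian A]

theorem filteredInjective_of_isZero {X : FilD.FilF A} (h : IsZero X) : FilD.IsFilteredInjective X :=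
  fun p => ⟨fun g _ _ => ⟨0, ((FilD.grF A p).map_isZero h).eq_of_tgt _ _⟩⟩

theorem filteredInjective_of_total {X Y Z : FilD.FilF A} (hX : FilD.IsFilteredInjective X)
    (hY : FilD.IsFilteredInjective Y) (i : X ⟶ Z) (j : Y ⟶ Z) (r : Z ⟶ X) (s : Z ⟶ Y)
    (h : r ≫ i + s ≫ j = 𝟙 Z) : FilD.IsFilteredInjective Z := fun p =>
  ⟨fun {T U} g f _ => by
    haveI := hX p
    haveI := hY p
    refine ⟨Injective.factorThru (g ≫ (FilD.grF A p).map r) f ≫ (FilD.grF A p).map i +
      Injective.factorThru (g ≫ (FilD.grF A p).map s) f ≫ (FilD.grF A p).map j, ?_⟩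
    rw [Preadditive.comp_add, Injective.comp_factorThru_assoc, Injective.comp_factorThru_assoc,
      Category.assoc, Category.assoc, ← Preadditive.comp_add, ← Functor.map_comp, ← Functor.map_comp,
      ← Functor.map_add, h, CategoryTheory.Functor.map_id, Category.comp_id]⟩

theorem grMono_of_comp {X Y Z : FilD.FilF A} (f : X ⟶ Y) (g : Y ⟶ Z) (h : GrMono (f ≫ g)) :
    GrMono f := fun p => by
  haveI : Mono ((FilD.grF A p).map f ≫ (FilD.grF A p).map g) := by
    rw [← Functor.map_comp]; exact h p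
  exact mono_of_mono ((FilD.grF A p).map f) ((FilD.grF A p).map g)

theorem grMono_of_isZero {X Y : FilD.FilF A} (h : IsZero X) (f : X ⟶ Y) : GrMono f := fun p =>
  ⟨fun _ _ _ => ((FilD.grF A p).map_isZero h).eq_of_tgt _ _⟩

section Build

variable (K : CochainComplex (FilD.FilF A) ℤ)

/-- The differential of a cone from level `n`. -/
def cd (n : ℤ) {P I : FilD.FilF A} (φ : K.X n ⟶ I) (d : P ⟶ I) : K.X n ⊞ P ⟶ K.X (n + 1) ⊞ I :=
  biprod.lift (-(biprod.fst ≫ K.d n (n + 1))) (biprod.desc φ d)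

/-- One stage of the construction. -/
structure Stage (n : ℤ) where
  P : FilD.FilF A
  I : FilD.FilF A
  φ : K.X n ⟶ I
  d : P ⟶ I
  inj : FilD.IsFilteredInjective I
  strict : StrictStep (cd K n φ d)

variable {K}

/-- Exactness on graded pieces. -/
def GrExact {X Y Z : FilD.FilF A} (f : X ⟶ Y) (g : Y ⟶ Z) : Prop :=
  f ≫ g = 0 ∧ ∀ (p : ℤ) ⦃T : A⦄ (x : T ⟶ (FilD.grF A p).obj Y), x ≫ (FilD.grF A p).map g = 0 →
    ∃ (T' : A) (π : T' ⟶ T) (_ : Epi π) (y : T' ⟶ (FilD.grF A p).obj X),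
      π ≫ x = y ≫ (FilD.grF A p).map f

theorem GrExact.exact {X Y Z : FilD.FilF A} {f : X ⟶ Y} {g : Y ⟶ Z} (h : GrExact f g) (p : ℤ) :
    ((ShortComplex.mk f g h.1).map (FilD.grF A p)).Exact :=
  (ShortComplex.exact_iff_exact_up_to_refinements _).mpr fun T x hx => h.2 p x hx

/-- Consecutive stages. -/
def Link {n : ℤ} (σ : Stage K n) (τ : Stage K (n + 1)) : Prop :=
  ∃ h : σ.I = τ.P, GrExact (cd K n σ.φ σ.d) (cd K (n + 1) τ.φ (eqToHom h ≫ τ.d))

theorem exists_next [EnoughInjectives A] {n : ℤ} (σ : Stage K n) :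
    ∃ τ : Stage K (n + 1), Link σ τ := by
  let e := cd K n σ.φ σ.d
  let Q : FilD.FilF A := ⟨cokernel e.hom, isFinFil_cokernel e σ.strict⟩
  let q : K.X (n + 1) ⊞ σ.I ⟶ Q := ObjectProperty.homMk (cokernel.π e.hom)
  obtain ⟨I', v, hI', hv⟩ := exists_grMono_into Q
  let φ' := biprod.inl ≫ q ≫ v
  let d' := biprod.inr ≫ q ≫ v
  have hsnd : cd K (n + 1) φ' d' ≫ biprod.snd = q ≫ v := by
    apply biprod.hom_ext' <;> simp [cd, φ', d']
  have heq : e ≫ q = 0 := by ext : 1; exact cokernel.condition _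
  have h : GrExact e (cd K (n + 1) φ' d') := by
    refine ⟨?_, fun p T x hx => ?_⟩
    · apply biprod.hom_ext
      · simp [e, cd]
      · rw [Category.assoc, hsnd, ← Category.assoc, heq, zero_comp, zero_comp]
    · have h1 : x ≫ (FilD.grF A p).map q = 0 := by
        haveI : Mono ((FilD.grF A p).map v) := hv p
        rw [← cancel_mono ((FilD.grF A p).map v), Category.assoc, ← Functor.map_comp, ← hsnd,
          Functor.map_comp, ← Category.assoc x, hx, zero_comp, zero_comp]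
      obtain ⟨-, w, hex⟩ := gr_exact_of_epi e.hom (cokernel.π e.hom)
        (fun r => by rw [← NatTrans.comp_app, cokernel.condition]; rfl)
        (fun r => cokernel_exact e r) p
      exact ((ShortComplex.exact_iff_exact_up_to_refinements _).mp hex) x h1
  refine ⟨⟨σ.I, I', φ', d', hI', ?_⟩, rfl, ?_⟩
  · exact (of_gr_exact (ShortComplex.mk _ _ h.1) h.exact).2.2
  · simpa using h

/-- The zero stage. -/
def zeroStage {n : ℤ} (h : IsZero (K.X n)) : Stage K n where
  P := 0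
  I := 0
  φ := 0
  d := 0
  inj := filteredInjective_of_isZero (isZero_zero _)
  strict := strictStep_of_grMono (grMono_of_isZero (by
    rw [IsZero.iff_id_eq_zero]
    apply biprod.hom_ext'
    · exact h.eq_of_src _ _
    · exact (isZero_zero _).eq_of_src _ _) _)

variable (K)

theorem exists_stages [EnoughInjectives A] (a : ℤ) [K.IsStrictlyGE a] :
    ∃ T : ∀ n, Stage K n, (∀ n, Link (T n) (T (n + 1))) ∧ ∀ n, n < a → IsZero (T n).I := by
  have hz : ∀ n, n < a → IsZero (K.X n) := fun n hn => K.isZero_of_isStrictlyGE a n hn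
  let T : ∀ n, Stage K n := fun n => Int.inductionOn' (motive := fun n => Stage K n) n (a - 1)
    (zeroStage (hz _ (by omega))) (fun k _ σ => (exists_next σ).choose)
    (fun k hk _ => zeroStage (hz (k - 1) (by omega)))
  have hT0 : ∀ n (hn : n ≤ a - 1), T n = zeroStage (hz n (by omega)) := fun n hn => by
    rcases eq_or_lt_of_le hn with rfl | h
    · exact Int.inductionOn'_self
    · obtain ⟨m, rfl⟩ : ∃ m, n = m - 1 := ⟨n + 1, by omega⟩
      exact Int.inductionOn'_sub_one (by omega)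
  refine ⟨T, fun n => ?_, fun n hn => by rw [hT0 n (by omega)]; exact isZero_zero _⟩
  by_cases hn : a - 1 ≤ n
  · simp only [T]
    rw [Int.inductionOn'_add_one hn]
    exact (exists_next _).choose_spec
  · rw [hT0 n (by omega), hT0 (n + 1) (by omega)]
    have h0 : IsZero (K.X (n + 1) ⊞ (0 : FilD.FilF A)) := by
      rw [IsZero.iff_id_eq_zero]
      apply biprod.hom_ext'
      · exact (hz (n + 1) (by omega)).eq_of_src _ _
      · exact (isZero_zero _).eq_of_src _ _
    refine ⟨rfl, ?_, fun p T x _ => ?_⟩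
    · exact (congrArg (· ≫ _) (h0.eq_of_tgt _ 0)).trans zero_comp
    exact ⟨T, 𝟙 T, inferInstance, 0, ((FilD.grF A p).map_isZero h0).eq_of_tgt _ _⟩

end Build

variable [EnoughInjectives A]

theorem exists_filteredQuasiIso_into (K : CochainComplex (FilD.FilF A) ℤ) (a : ℤ) [K.IsStrictlyGE a] :
    ∃ (I : CochainComplex (FilD.FilF A) ℤ) (φ : K ⟶ I), I.IsStrictlyGE a ∧
      (∀ n, FilD.IsFilteredInjective (I.X n)) ∧ FilD.IsFilteredQuasiIso φ := by
  obtain ⟨T, hlink, hzero⟩ := exists_stages K a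
  choose hP hex using hlink
  let dI : ∀ n, (T n).I ⟶ (T (n + 1)).I := fun n => eqToHom (hP n) ≫ (T (n + 1)).d
  let E : ∀ n, K.X (n + 1) ⊞ (T n).I ⟶ K.X (n + 1 + 1) ⊞ (T (n + 1)).I := fun n =>
    cd K (n + 1) (T (n + 1)).φ (dI n)
  have hE : ∀ n, GrExact (E n) (E (n + 1)) := fun n => by
    let e : K.X (n + 1) ⊞ (T n).I ≅ K.X (n + 1) ⊞ (T (n + 1)).P :=
      biprod.mapIso (Iso.refl _) (eqToIso (hP n))
    have he : E n = e.hom ≫ cd K (n + 1) (T (n + 1)).φ (T (n + 1)).d := by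
      apply biprod.hom_ext <;> apply biprod.hom_ext' <;> simp [E, cd, e, dI]
    refine ⟨by rw [he, Category.assoc, (hex (n + 1)).1, comp_zero], fun p U x hx => ?_⟩
    obtain ⟨U', π, hπ, y, hy⟩ := (hex (n + 1)).2 p x hx
    refine ⟨U', π, hπ, y ≫ (FilD.grF A p).map e.inv, ?_⟩
    rw [Category.assoc, ← Functor.map_comp, he, e.inv_hom_id_assoc]
    exact hy
  have h1 : ∀ n, K.d (n + 1) (n + 1 + 1) ≫ (T (n + 1 + 1)).φ = (T (n + 1)).φ ≫ dI (n + 1) := fun n => by
    have := congrArg (fun f => biprod.inl ≫ f ≫ biprod.snd) (hE n).1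
    simp only [E, cd, Category.assoc, biprod.lift_snd, zero_comp, comp_zero, biprod.lift_desc,
      biprod.inl_desc] at this
    rw [← sub_eq_zero]
    rw [← neg_eq_zero]
    simpa [sub_eq_add_neg, add_comm] using this
  have hd : ∀ n, dI n ≫ dI (n + 1) = 0 := fun n => by
    have := congrArg (fun f => biprod.inr ≫ f ≫ biprod.snd) (hE n).1
    simpa [E, cd] using this
  let I : CochainComplex (FilD.FilF A) ℤ := CochainComplex.of (fun n => (T n).I) dI hd
  have hId : ∀ n, I.d n (n + 1) = dI n := fun n => by dsimp [I]; rw [CochainComplex.of_d]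
  let φ : K ⟶ I :=
    { f := fun n => (T n).φ
      comm' := fun i j hij => by
        obtain rfl : i + 1 = j := hij
        obtain ⟨m, rfl⟩ : ∃ m, i = m + 1 := ⟨i - 1, by omega⟩
        rw [hId]
        exact (h1 m).symm }
  refine ⟨I, φ, (CochainComplex.isStrictlyGE_iff _ _).mpr hzero, fun n => (T n).inj, fun p => ?_⟩
  have hcone : ∀ n, ((FilD.grCx p).obj (mappingCone φ)).ExactAt n := fun j => by
    obtain ⟨n, rfl⟩ : ∃ n, j = n + 1 := ⟨j - 1, by omega⟩
    rw [HomologicalComplex.exactAt_iff' _ n (n + 1) (n + 1 + 1) (by simp) (by simp)]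
    let θ : ∀ i, (mappingCone φ).X i ≅ K.X (i + 1) ⊞ (T i).I := fun i =>
      { hom := biprod.lift ((mappingCone.fst φ).1.v i (i + 1) rfl)
          ((mappingCone.snd φ).v i i (add_zero i))
        inv := biprod.desc ((mappingCone.inl φ).v (i + 1) i (by omega)) ((mappingCone.inr φ).f i)
        hom_inv_id := by rw [biprod.lift_desc]; exact mappingCone.id_X φ i (i + 1) rfl
        inv_hom_id := by apply biprod.hom_ext <;> apply biprod.hom_ext' <;> simp <;> rfl }
    have hθ : ∀ i, (θ i).hom ≫ E i = (mappingCone φ).d i (i + 1) ≫ (θ (i + 1)).hom := fun i => by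
      apply biprod.hom_ext
      · simp [θ, E, cd, mappingCone.d_fst_v φ i (i + 1) (i + 1 + 1) rfl rfl]
      · simp [θ, E, cd, mappingCone.d_snd_v φ i (i + 1) rfl, hId, φ]
    let S := ShortComplex.mk (E n) (E (n + 1)) (hE n).1
    let iso : (mappingCone φ).sc' n (n + 1) (n + 1 + 1) ≅ S :=
      ShortComplex.isoMk (θ n) (θ (n + 1)) (θ (n + 1 + 1)) (hθ n) (hθ (n + 1))
    exact ShortComplex.exact_of_iso ((FilD.grF A p).mapShortComplex.mapIso iso).symm ((hE n).exact p)
  let β := (FilD.grCx p).map φ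
  have h1' : (mappingCone β).Acyclic := fun n =>
    (hcone n).of_iso (CochainComplex.mappingCone.mapHomologicalComplexIso φ (FilD.grF A p))
  have h2 := (HomotopyCategory.subcategoryAcyclic A).trW_iff_of_distinguished _
    (HomotopyCategory.mappingCone_triangleh_distinguished β)
  rw [← HomotopyCategory.quasiIso_eq_trW_subcategoryAcyclic] at h2
  exact (HomologicalComplex.mem_quasiIso_iff β).mp ((HomotopyCategory.quotient_map_mem_quasiIso_iff β).mp
    (h2.mpr ((HomotopyCategory.quotient_obj_mem_subcategoryAcyclic_iff_acyclic _).mpr h1')))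

/-- Projection away from a contractible summand. -/
def fstEquiv (I D : CochainComplex (FilD.FilF A) ℤ) (h : Homotopy (𝟙 D) 0) :
    HomotopyEquiv (I ⊞ D) I where
  hom := biprod.fst
  inv := biprod.inl
  homotopyHomInvId :=
    (Homotopy.ofEq (by rw [comp_zero, zero_comp, zero_add])).trans
      (((((h.compLeft (biprod.snd : I ⊞ D ⟶ D)).compRight (biprod.inr : D ⟶ I ⊞ D)).symm).add
        (Homotopy.refl ((biprod.fst : I ⊞ D ⟶ I) ≫ biprod.inl))).trans
        (Homotopy.ofEq (by rw [Category.comp_id, add_comm, biprod.total])))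
  homotopyInvHomId := Homotopy.ofEq biprod.inl_fst

theorem exists_resolution (K : CochainComplex (FilD.FilF A) ℤ) (a : ℤ) [K.IsStrictlyGE a] :
    ∃ (M : CochainComplex (FilD.FilF A) ℤ) (a' : ℤ) (ψ : K ⟶ M), M.IsStrictlyGE a' ∧
      (∀ n, FilD.IsFilteredInjective (M.X n)) ∧ FilD.IsFilteredQuasiIso ψ ∧ ∀ n, GrMono (ψ.f n) := by
  classical
  obtain ⟨I, φ, hIge, hI, hφ⟩ := exists_filteredQuasiIso_into K a
  have hw : ∀ n, ∃ (J : FilD.FilF A) (w : K.X n ⟶ J), FilD.IsFilteredInjective J ∧ GrMono w ∧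
      (n < a → IsZero J) := fun n => by
    by_cases hn : n < a
    · exact ⟨0, 0, filteredInjective_of_isZero (isZero_zero _),
        grMono_of_isZero (K.isZero_of_isStrictlyGE a n hn) _, fun _ => isZero_zero _⟩
    · obtain ⟨J, w, hJ, hw⟩ := exists_grMono_into (K.X n)
      exact ⟨J, w, hJ, hw, fun h => absurd h hn⟩
  choose J w hJ hw hJz using hw
  let Jc : CochainComplex (FilD.FilF A) ℤ := CochainComplex.of J (fun _ => 0) (fun _ => zero_comp)
  let D := mappingCone (𝟙 Jc)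
  let β : Cochain K Jc 0 := Cochain.ofHoms w
  let α : Cocycle K Jc 1 := Cocycle.mk (-δ 0 1 β) 2 (by norm_num) (by rw [δ_neg, δ_δ, neg_zero])
  let θ : K ⟶ D := mappingCone.lift (𝟙 Jc) α β (by simp [α])
  have hDX : ∀ n, FilD.IsFilteredInjective (D.X n) := fun n =>
    filteredInjective_of_total (hJ (n + 1)) (hJ n) _ _ _ _ (mappingCone.id_X (𝟙 Jc) n (n + 1) rfl)
  haveI hDge : D.IsStrictlyGE (a - 1) := (CochainComplex.isStrictlyGE_iff _ _).mpr fun n hn => by
    rw [IsZero.iff_id_eq_zero, ← mappingCone.id_X (𝟙 Jc) n (n + 1) rfl,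
      (hJz (n + 1) (by omega)).eq_of_tgt ((mappingCone.fst (𝟙 Jc)).1.v n (n + 1) rfl) 0,
      (hJz n (by omega)).eq_of_tgt ((mappingCone.snd (𝟙 Jc)).v n n (add_zero n)) 0]
    simp
  obtain ⟨hD0⟩ := nullhomotopic D D (filteredAcyclic_cone (𝟙 Jc) fun p => by
    rw [CategoryTheory.Functor.map_id]; infer_instance) (a - 1) hDX (𝟙 D)
  haveI hIge' : I.IsStrictlyGE (a - 1) := CochainComplex.isStrictlyGE_of_ge I (a - 1) a (by omega)
  let M := I ⊞ D
  let ψ : K ⟶ M := biprod.lift φ θ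
  have hMtot : ∀ n, (biprod.fst : M ⟶ I).f n ≫ (biprod.inl : I ⟶ M).f n +
      (biprod.snd : M ⟶ D).f n ≫ (biprod.inr : D ⟶ M).f n = 𝟙 _ := fun n => by
    rw [← comp_f, ← comp_f, ← HomologicalComplex.add_f_apply, biprod.total]
    rfl
  refine ⟨M, a - 1, ψ, (CochainComplex.isStrictlyGE_iff _ _).mpr fun n hn => ?_,
    fun n => filteredInjective_of_total (hI n) (hDX n) _ _ _ _ (hMtot n), fun p => ?_, fun n => ?_⟩
  · rw [IsZero.iff_id_eq_zero, ← hMtot n,
      (I.isZero_of_isStrictlyGE (a - 1) n hn).eq_of_tgt ((biprod.fst : M ⟶ I).f n) 0,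
      (D.isZero_of_isStrictlyGE (a - 1) n hn).eq_of_tgt ((biprod.snd : M ⟶ D).f n) 0]
    simp
  · let he : HomotopyEquiv M I := fstEquiv I D hD0
    haveI : QuasiIso ((FilD.grCx p).map (biprod.fst : M ⟶ I)) :=
      inferInstanceAs (QuasiIso ((FilD.grF A p).mapHomotopyEquiv he).hom)
    haveI : QuasiIso ((FilD.grCx p).map ψ ≫ (FilD.grCx p).map (biprod.fst : M ⟶ I)) := by
      rw [← Functor.map_comp, biprod.lift_fst]; exact hφ p
    exact quasiIso_of_comp_right ((FilD.grCx p).map ψ) ((FilD.grCx p).map (biprod.fst : M ⟶ I))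
  · refine grMono_of_comp _ ((biprod.snd : M ⟶ D).f n ≫ (mappingCone.snd (𝟙 Jc)).v n n (add_zero n)) ?_
    rw [← Category.assoc, ← comp_f, biprod.lift_snd]
    simp only [θ, mappingCone.lift_f_snd_v, β, Cochain.ofHoms_v]
    exact hw n

theorem eq_of_homotopy_bounded {K L : CochainComplex (FilD.FilF A) ℤ} (c : ℤ) [K.IsStrictlyLE c]
    [L.IsStrictlyGE c] {f g : K ⟶ L} (h : Homotopy f g) : f = g := by
  have h0 : ∀ i j, h.hom i j = 0 := fun i j => by
    by_cases hij : j + 1 = i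
    · by_cases hi : c < i
      · exact (K.isZero_of_isStrictlyLE c i hi).eq_of_src _ _
      · exact (L.isZero_of_isStrictlyGE c j (by omega)).eq_of_tgt _ _
    · exact h.zero i j hij
  ext n : 1
  rw [h.comm n, dNext_eq _ (show (ComplexShape.up ℤ).Rel n (n + 1) from rfl),
    prevD_eq _ (show (ComplexShape.up ℤ).Rel (n - 1) n by simp), h0, h0]
  simp

theorem resolution_map {X Y : FilD.FilF A} (f : X ⟶ Y)
    (I : CochainComplex (FilD.FilF A) ℤ) [I.IsStrictlyGE 0]
    (a : (CochainComplex.singleFunctor (FilD.FilF A) 0).obj X ⟶ I) (ha : FilD.IsFilteredQuasiIso a)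
    (J : CochainComplex (FilD.FilF A) ℤ) [J.IsStrictlyGE 0] (hJ : ∀ n, FilD.IsFilteredInjective (J.X n))
    (b : (CochainComplex.singleFunctor (FilD.FilF A) 0).obj Y ⟶ J) :
    ∃ φ : I ⟶ J, a ≫ φ = (CochainComplex.singleFunctor (FilD.FilF A) 0).map f ≫ b := by
  let Q := HomotopyCategory.quotient (FilD.FilF A) (ComplexShape.up ℤ)
  obtain ⟨γ, hγ⟩ := (precomp_bijective J 0 hJ a ha).2
    (Q.map ((CochainComplex.singleFunctor (FilD.FilF A) 0).map f ≫ b))
  obtain ⟨φ, rfl⟩ := Q.map_surjective γ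
  exact ⟨φ, eq_of_homotopy_bounded 0 (HomotopyCategory.homotopyOfEq _ _
    ((Q.map_comp a φ).trans hγ))⟩

theorem resolution_shortExact (S : ShortComplex (FilD.FilF A))
    (hS : ∀ p : ℤ, (S.map ((FilD.IsFinFil A).ι ⋙ (evaluation ℤᵒᵖ A).obj (op p))).ShortExact)
    (I : CochainComplex (FilD.FilF A) ℤ) [I.IsStrictlyGE 0] (hI : ∀ n, FilD.IsFilteredInjective (I.X n))
    (a : (CochainComplex.singleFunctor (FilD.FilF A) 0).obj S.X₁ ⟶ I)
    (J : CochainComplex (FilD.FilF A) ℤ) [J.IsStrictlyGE 0]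
    (c : (CochainComplex.singleFunctor (FilD.FilF A) 0).obj S.X₃ ⟶ J) (hc : FilD.IsFilteredQuasiIso c) :
    ∃ (M : CochainComplex (FilD.FilF A) ℤ) (α : I ⟶ M) (β : M ⟶ J)
      (b : (CochainComplex.singleFunctor (FilD.FilF A) 0).obj S.X₂ ⟶ M),
      (∀ n, ∃ (r : M.X n ⟶ I.X n) (s : J.X n ⟶ M.X n), α.f n ≫ r = 𝟙 _ ∧ s ≫ β.f n = 𝟙 _ ∧
        α.f n ≫ β.f n = 0 ∧ r ≫ α.f n + β.f n ≫ s = 𝟙 _) ∧
      a ≫ α = (CochainComplex.singleFunctor (FilD.FilF A) 0).map S.f ≫ b ∧
      b ≫ β = (CochainComplex.singleFunctor (FilD.FilF A) 0).map S.g ≫ c := by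
  let a₀ : S.X₁ ⟶ I.X 0 := (singleObjXSelf (ComplexShape.up ℤ) 0 S.X₁).inv ≫ a.f 0
  let c₀ : S.X₃ ⟶ J.X 0 := (singleObjXSelf (ComplexShape.up ℤ) 0 S.X₃).inv ≫ c.f 0
  have hm : ∀ p, Mono (S.f.hom.app (op p)) := fun p => (hS p).mono_f
  have he : ∀ p, Epi (S.g.hom.app (op p)) := fun p => (hS p).epi_g
  have hf : GrMono S.f := by
    refine grMono_of_strictStep hm fun p T x y hxy => ?_
    haveI := (hS p).mono_f
    obtain ⟨T', π, hπ, x', hx'⟩ := (hS (p + 1)).exact.exact_up_to_refinements y (by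
      change y ≫ S.g.hom.app (op (p + 1)) = 0
      rw [← cancel_mono (tr S.X₃.obj (Int.le_add_one (le_refl p))), Category.assoc, ← tr_nat,
        ← reassoc_of% hxy, zero_comp, ← NatTrans.comp_app, ← ObjectProperty.FullSubcategory.comp_hom,
        S.zero]
      exact comp_zero)
    exact ⟨T', π, hπ, x', hx'.symm⟩
  obtain ⟨θ, hθ⟩ := exists_desc_of_grMono S.f hf (hI 0) a₀
  have ha₀ : a₀ ≫ I.d 0 1 = 0 := by
    have : a.f 0 ≫ I.d 0 1 = 0 := by
      rw [a.comm]
      exact (congrArg (· ≫ a.f 1)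
        ((isZero_single_obj_X (ComplexShape.up ℤ) 0 S.X₁ 1 (by omega)).eq_of_tgt _ 0)).trans zero_comp
    exact (Category.assoc _ _ _).trans ((congrArg _ this).trans comp_zero)
  have hkill : ∀ p, S.f.hom.app (op p) ≫ (-(θ ≫ I.d 0 1)).hom.app (op p) = 0 := fun p => by
    rw [← NatTrans.comp_app, ← ObjectProperty.FullSubcategory.comp_hom, Preadditive.comp_neg,
      ← Category.assoc, hθ, ha₀, neg_zero]
    rfl
  let ηa : ∀ p : ℤ, S.X₃.obj.obj (op p) ⟶ (I.X 1).obj.obj (op p) := fun p =>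
    haveI := (hS p).epi_g
    (hS p).exact.desc ((-(θ ≫ I.d 0 1)).hom.app (op p)) (hkill p)
  have hηa : ∀ p, S.g.hom.app (op p) ≫ ηa p = (-(θ ≫ I.d 0 1)).hom.app (op p) := fun p =>
    haveI := (hS p).epi_g
    (hS p).exact.g_desc _ _
  let η : S.X₃ ⟶ I.X 1 := ObjectProperty.homMk (natMk ηa fun p q hpq => by
    haveI := he q
    rw [← cancel_epi (S.g.hom.app (op q)), ← Category.assoc, ← tr_nat, Category.assoc, hηa,
      reassoc_of% hηa q, tr_nat])
  have hη : S.g ≫ η = -(θ ≫ I.d 0 1) := by ext p; exact hηa p.unop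
  have hηd : η ≫ I.d 1 2 = 0 := by
    ext p
    haveI := he p.unop
    rw [← cancel_epi (S.g.hom.app (op p.unop))]
    have := congrArg (fun f : S.X₂ ⟶ I.X 2 => f.hom.app p)
      (show S.g ≫ η ≫ I.d 1 2 = 0 by rw [← Category.assoc, hη]; simp)
    exact this.trans comp_zero.symm
  haveI := I.isStrictlyGE_shift 0 1 (-1) (by omega)
  let I1 := (CategoryTheory.shiftFunctor (CochainComplex (FilD.FilF A) ℤ) (1 : ℤ)).obj I
  let η' : (CochainComplex.singleFunctor (FilD.FilF A) 0).obj S.X₃ ⟶ I1 :=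
    mkHomFromSingle (η : S.X₃ ⟶ I1.X 0) fun k hk => by
      obtain rfl : 0 + 1 = k := hk
      change η ≫ ((1 : ℤ).negOnePow • I.d (0 + 1) (0 + 1 + 1)) = 0
      rw [Linear.comp_units_smul]
      rw [show η ≫ I.d (0 + 1) (0 + 1 + 1) = 0 from hηd, smul_zero]
  let Q := HomotopyCategory.quotient (FilD.FilF A) (ComplexShape.up ℤ)
  obtain ⟨γ, hγ⟩ := (precomp_bijective I1 (-1) (fun n => hI (n + 1)) c hc).2 (Q.map η')
  obtain ⟨τ, rfl⟩ := Q.map_surjective γ
  have h := HomotopyCategory.homotopyOfEq _ _ ((Q.map_comp c τ).trans hγ)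
  let h₀ : S.X₃ ⟶ I.X 0 :=
    -((singleObjXSelf (ComplexShape.up ℤ) 0 S.X₃).inv ≫
      (h.hom 0 (-1) : _ ⟶ I.X (-1 + 1)) ≫ (I.XIsoOfEq (show (-1 : ℤ) + 1 = 0 by omega)).hom)
  let τ₀ : J.X 0 ⟶ I.X 1 := τ.f 0
  have hkey : c₀ ≫ τ₀ = η + h₀ ≫ I.d 0 1 := by
    have hc' := h.comm 0
    rw [dNext_eq _ (show (ComplexShape.up ℤ).Rel 0 1 from rfl),
      prevD_eq _ (show (ComplexShape.up ℤ).Rel (-1) 0 from rfl),
      (show IsZero (((CochainComplex.singleFunctor (FilD.FilF A) 0).obj S.X₃).X 1) from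
        isZero_single_obj_X (ComplexShape.up ℤ) 0 S.X₃ 1 (by omega)).eq_of_tgt
        (((CochainComplex.singleFunctor (FilD.FilF A) 0).obj S.X₃).d 0 1) 0, zero_comp, zero_add] at hc'
    rw [show η'.f 0 = (singleObjXSelf (ComplexShape.up ℤ) 0 S.X₃).hom ≫ η from mkHomFromSingle_f _ _]
      at hc'
    refine (Category.assoc _ _ _).trans
      ((congrArg ((singleObjXSelf (ComplexShape.up ℤ) 0 S.X₃).inv ≫ ·) hc').trans ?_)
    refine (Preadditive.comp_add _ _ _ _ _ _).trans ?_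
    refine (congrArg₂ (· + ·) rfl ((singleObjXSelf (ComplexShape.up ℤ) 0 S.X₃).inv_hom_id_assoc _)).trans ?_
    let h' : ((CochainComplex.singleFunctor (FilD.FilF A) 0).obj S.X₃).X 0 ⟶ I.X (-1 + 1) := h.hom 0 (-1)
    change ((singleObjXSelf (ComplexShape.up ℤ) 0 S.X₃).inv ≫ h' ≫
      ((1 : ℤ).negOnePow • I.d (-1 + 1) 1) : S.X₃ ⟶ I.X 1) + η =
      η + (-((singleObjXSelf (ComplexShape.up ℤ) 0 S.X₃).inv ≫ h' ≫
        (I.XIsoOfEq (show (-1 : ℤ) + 1 = 0 by omega)).hom)) ≫ I.d 0 1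
    rw [Preadditive.neg_comp, Category.assoc, Category.assoc, XIsoOfEq_hom_comp_d]
    simp [add_comm]
  let τ' : ∀ i, J.X i ⟶ I.X (i + 1) := fun i => τ.f i
  have hτ : ∀ i, τ' i ≫ I.d (i + 1) (i + 1 + 1) + J.d i (i + 1) ≫ τ' (i + 1) = 0 := fun i => by
    have h1 : -(τ' i ≫ I.d (i + 1) (i + 1 + 1)) = J.d i (i + 1) ≫ τ' (i + 1) := by
      refine Eq.trans ?_ (τ.comm i (i + 1))
      change _ = τ' i ≫ ((1 : ℤ).negOnePow • I.d (i + 1) (i + 1 + 1))
      simp
    rw [← h1, add_neg_cancel]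
  let dM : ∀ i, I.X i ⊞ J.X i ⟶ I.X (i + 1) ⊞ J.X (i + 1) := fun i =>
    biprod.lift (biprod.desc (I.d i (i + 1)) (τ' i)) (biprod.snd ≫ J.d i (i + 1))
  let M : CochainComplex (FilD.FilF A) ℤ := CochainComplex.of (fun i => I.X i ⊞ J.X i) dM fun i => by
    apply biprod.hom_ext' <;> apply biprod.hom_ext
    · simp [dM]
    · simp [dM]
    · simpa [dM, τ'] using hτ i
    · simp [dM]
  have hMd : ∀ i, M.d i (i + 1) = dM i := fun i => by dsimp [M]; rw [CochainComplex.of_d]
  let α : I ⟶ M :=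
    { f := fun i => biprod.inl
      comm' := fun i j hij => by
        obtain rfl : i + 1 = j := hij
        rw [hMd]
        apply biprod.hom_ext <;> simp [dM] }
  let β : M ⟶ J :=
    { f := fun i => biprod.snd
      comm' := fun i j hij => by
        obtain rfl : i + 1 = j := hij
        rw [hMd]
        simp [dM] }
  let θ' := θ + S.g ≫ (-h₀)
  let b : (CochainComplex.singleFunctor (FilD.FilF A) 0).obj S.X₂ ⟶ M :=
    mkHomFromSingle (biprod.lift θ' (S.g ≫ c₀) : S.X₂ ⟶ M.X 0) fun k hk => by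
      obtain rfl : 0 + 1 = k := hk
      rw [hMd]
      apply biprod.hom_ext
      · simp only [dM, Category.assoc, biprod.lift_fst, biprod.lift_desc, zero_comp, τ']
        change θ' ≫ I.d 0 1 + S.g ≫ c₀ ≫ τ₀ = 0
        rw [hkey, Preadditive.comp_add, hη]
        simp [θ']
        abel
      · simp only [dM, Category.assoc, biprod.lift_snd, biprod.lift_snd_assoc, zero_comp]
        have : c₀ ≫ J.d 0 1 = 0 := by
          have : c.f 0 ≫ J.d 0 1 = 0 := by
            rw [c.comm]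
            exact (congrArg (· ≫ c.f 1)
              ((isZero_single_obj_X (ComplexShape.up ℤ) 0 S.X₃ 1 (by omega)).eq_of_tgt _ 0)).trans zero_comp
          exact (Category.assoc _ _ _).trans ((congrArg _ this).trans comp_zero)
        exact (congrArg (S.g ≫ ·) this).trans comp_zero
  have hb : b.f 0 = (singleObjXSelf (ComplexShape.up ℤ) 0 S.X₂).hom ≫ biprod.lift θ' (S.g ≫ c₀) :=
    mkHomFromSingle_f _ _
  refine ⟨M, α, β, b, fun n => ⟨biprod.fst, biprod.inr, biprod.inl_fst, biprod.inr_snd,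
    biprod.inl_snd, biprod.total⟩, from_single_hom_ext ?_, from_single_hom_ext ?_⟩
  · rw [HomologicalComplex.comp_f, HomologicalComplex.comp_f, hb,
      ← cancel_epi (singleObjXSelf (ComplexShape.up ℤ) 0 S.X₁).inv]
    simp only [CochainComplex.singleFunctor, CochainComplex.singleFunctors]
    apply biprod.hom_ext
    · simp [α, θ', a₀, ← hθ, reassoc_of% S.zero, single_map_f_self]
    · simp [α, reassoc_of% S.zero, single_map_f_self]
  · rw [HomologicalComplex.comp_f, HomologicalComplex.comp_f, hb,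
      ← cancel_epi (singleObjXSelf (ComplexShape.up ℤ) 0 S.X₂).inv]
    simp only [CochainComplex.singleFunctor, CochainComplex.singleFunctors]
    simp [β, c₀, single_map_f_self]

end Groth.Agent.FilD70
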