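import Groth.Agent.FilD70.Homot

/-!
# Canonical truncations of filtered complexes
-/

set_option linter.style.haveILetI false

universe v u

open CategoryTheory CategoryTheory.Limits Opposite HomologicalComplex ZeroObject

noncomputable section

attribute [local instance] Limits.HasFiniteBiproducts.of_hasFiniteProducts

namespace Groth.Agent.FilD70

variable {A : Type u} [Category.{v} A] [Abelian A]

section gr

theorem gr_exact_of_epi {X Y Z : ℤᵒᵖ ⥤ A} (f : X ⟶ Y) (g : Y ⟶ Z) [∀ x, Epi (g.app x)]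
    (w : ∀ q, f.app (op q) ≫ g.app (op q) = 0)
    (h : ∀ q, (ShortComplex.mk (f.app (op q)) (g.app (op q)) (w q)).Exact) (p : ℤ) :
    Epi ((FilD.gr A p).map g) ∧
      ∃ w', (ShortComplex.mk ((FilD.gr A p).map f) ((FilD.gr A p).map g) w').Exact := by
  refine ⟨?_, ?_, ?_⟩
  · haveI : Epi (proj Y p ≫ (FilD.gr A p).map g) := by rw [proj_map]; infer_instance
    exact epi_of_epi (proj Y p) _
  · rw [← cancel_epi (proj X p)]
    simp only [proj_map_assoc, proj_map]
    rw [reassoc_of% (w p)]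
    simp
  · rw [ShortComplex.exact_iff_exact_up_to_refinements]
    intro T (z : T ⟶ (FilD.gr A p).obj Y) (hz : z ≫ (FilD.gr A p).map g = 0)
    obtain ⟨T₁, π₁, hπ₁, y, hy⟩ := lift_proj z
    obtain ⟨T₂, π₂, hπ₂, c, hc⟩ := lift_of_proj_eq_zero (F := Z) (y ≫ g.app (op p)) (by
      rw [Category.assoc, ← proj_map, ← Category.assoc, ← hy, Category.assoc, hz, comp_zero])
    obtain ⟨T₃, π₃, hπ₃, y', hy'⟩ := surjective_up_to_refinements_of_epi (g.app (op (p + 1))) c
    obtain ⟨T₄, π₄, hπ₄, x, hx⟩ : ∃ (T₄ : A) (π₄ : T₄ ⟶ T₃) (_ : Epi π₄) (x : T₄ ⟶ X.obj (op p)),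
        π₄ ≫ (π₃ ≫ π₂ ≫ y - y' ≫ tr Y (Int.le_add_one le_rfl)) = x ≫ f.app (op p) :=
      ((ShortComplex.exact_iff_exact_up_to_refinements _).mp (h p))
        (π₃ ≫ π₂ ≫ y - y' ≫ tr Y (Int.le_add_one le_rfl)) (by
          change (π₃ ≫ π₂ ≫ y - y' ≫ tr Y (Int.le_add_one le_rfl)) ≫ g.app (op p) = 0
          simp only [Preadditive.sub_comp, Category.assoc, tr_nat, hc]
          rw [reassoc_of% hy', sub_self])
    refine ⟨T₄, π₄ ≫ π₃ ≫ π₂ ≫ π₁, inferInstance, x ≫ proj X p, ?_⟩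
    change (π₄ ≫ π₃ ≫ π₂ ≫ π₁) ≫ z = (x ≫ proj X p) ≫ (FilD.gr A p).map f
    refine Eq.trans ?_ (Category.assoc _ _ _).symm
    refine Eq.trans ?_ (congrArg (x ≫ ·) (proj_map f p)).symm
    simp only [← Category.assoc x, ← hx]
    simp [hy]

theorem gr_kernel {X Y : FilD.FilF A} (φ : X ⟶ Y) (h : StrictStep φ) (p : ℤ) :
    Mono ((FilD.gr A p).map (kernel.ι φ.hom)) ∧
      ∃ w, (ShortComplex.mk ((FilD.gr A p).map (kernel.ι φ.hom)) ((FilD.gr A p).map φ.hom) w).Exact := by
  refine ⟨?_, _, ((isStrict_iff_gr_kernel_exact φ).mp ((isStrict_iff φ).mpr h) p)⟩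
  let i : (⟨kernel φ.hom, isFinFil_kernel φ⟩ : FilD.FilF A) ⟶ X :=
    ObjectProperty.homMk (kernel.ι φ.hom)
  refine grMono_of_strictStep (φ := i) (fun q => inferInstanceAs (Mono ((kernel.ι φ.hom).app (op q)))) ?_ p
  intro q T x y hxy
  change x ≫ (kernel.ι φ.hom).app (op q) = y ≫ tr X.obj _ at hxy
  obtain ⟨k, hk⟩ := kernel_lift φ y (by
    rw [← cancel_mono (tr Y.obj (Int.le_add_one (le_refl q))), zero_comp, Category.assoc, ← tr_nat,
      ← reassoc_of% hxy, ← NatTrans.comp_app, kernel.condition]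
    simp)
  exact ⟨T, 𝟙 T, inferInstance, k, by rw [Category.id_comp]; exact hk⟩

end gr

section criterion

variable {K L : CochainComplex A ℤ}

theorem quasiIso_of_quotient (π : K ⟶ L) (a : ℤ) [K.IsGE a] [L.IsStrictlyGE a]
    (hiso : ∀ n, a < n → IsIso (π.f n)) (hepi : Epi (π.f a))
    (hex : ∀ ⦃T : A⦄ (x : T ⟶ K.X a), x ≫ π.f a = 0 → ∃ (T' : A) (ρ : T' ⟶ T) (_ : Epi ρ)
      (y : T' ⟶ K.X (a - 1)), ρ ≫ x = y ≫ K.d (a - 1) a) : QuasiIso π := by
  let ψ : K.truncGE a ⟶ L := CochainComplex.truncGEMap π a ≫ inv (L.πTruncGE a)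
  have hψ : K.πTruncGE a ≫ ψ = π := by simp [ψ]
  haveI : IsIso ψ := by
    haveI : ∀ n, IsIso (ψ.f n) := fun n => by
      have hn : (K.πTruncGE a).f n ≫ ψ.f n = π.f n := by rw [← comp_f, hψ]
      rcases lt_trichotomy n a with h | h | h
      · exact ⟨0, ((K.truncGE a).isZero_of_isStrictlyGE a n h).eq_of_src _ _,
          (L.isZero_of_isStrictlyGE a n h).eq_of_src _ _⟩
      · subst h
        haveI : Epi (ψ.f n) := by
          haveI : Epi ((K.πTruncGE n).f n ≫ ψ.f n) := hn ▸ hepi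
          exact epi_of_epi ((K.πTruncGE n).f n) _
        haveI : Mono (ψ.f n) := by
          refine Preadditive.mono_of_cancel_zero _ fun {T} x hx => ?_
          haveI : Epi ((K.πTruncGE n).f n) := by unfold CochainComplex.πTruncGE; infer_instance
          obtain ⟨T₁, π₁, hπ₁, y, hy⟩ := surjective_up_to_refinements_of_epi ((K.πTruncGE n).f n) x
          obtain ⟨T₂, π₂, hπ₂, z, hz⟩ := hex y (by rw [← hn, ← reassoc_of% hy, hx, comp_zero])
          rw [← cancel_epi π₁, ← cancel_epi π₂, hy, comp_zero, comp_zero, reassoc_of% hz,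
            ← (K.πTruncGE n).comm (n - 1) n,
            ((K.truncGE n).isZero_of_isStrictlyGE n (n - 1) (by omega)).eq_of_tgt
              ((K.πTruncGE n).f (n - 1)) 0]
          simp
        exact isIso_of_mono_of_epi _
      · haveI := hiso n h
        haveI : Epi ((K.πTruncGE a).f n) := by unfold CochainComplex.πTruncGE; infer_instance
        haveI : IsSplitMono ((K.πTruncGE a).f n) :=
          ⟨⟨⟨ψ.f n ≫ inv (π.f n), by rw [← Category.assoc, hn, IsIso.hom_inv_id]⟩⟩⟩
        haveI : IsIso ((K.πTruncGE a).f n) := isIso_of_epi_of_isSplitMono _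
        exact IsIso.of_isIso_fac_left hn
    exact Hom.isIso_of_components ψ
  rw [← hψ]
  infer_instance

theorem quasiIso_of_sub (ι : L ⟶ K) (b : ℤ) [K.IsLE b] [L.IsStrictlyLE b]
    (hiso : ∀ n, n < b → IsIso (ι.f n)) (hmono : Mono (ι.f b))
    (hlift : ∀ ⦃T : A⦄ (x : T ⟶ K.X b), x ≫ K.d b (b + 1) = 0 → ∃ (T' : A) (ρ : T' ⟶ T) (_ : Epi ρ)
      (y : T' ⟶ L.X b), ρ ≫ x = y ≫ ι.f b) : QuasiIso ι := by
  let ψ : L ⟶ K.truncLE b := inv (L.ιTruncLE b) ≫ CochainComplex.truncLEMap ι b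
  have hψ : ψ ≫ K.ιTruncLE b = ι := by simp [ψ]
  haveI : IsIso ψ := by
    haveI : ∀ n, IsIso (ψ.f n) := fun n => by
      haveI : Mono ((K.ιTruncLE b).f n) := by unfold CochainComplex.ιTruncLE; infer_instance
      have hn : ψ.f n ≫ (K.ιTruncLE b).f n = ι.f n := by rw [← comp_f, hψ]
      rcases lt_trichotomy b n with h | h | h
      · exact ⟨0, (L.isZero_of_isStrictlyLE b n h).eq_of_src _ _,
          ((K.truncLE b).isZero_of_isStrictlyLE b n h).eq_of_src _ _⟩
      · subst h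
        haveI := hmono
        haveI : Mono (ψ.f b) := mono_of_mono_fac hn
        haveI : Epi (ψ.f b) := by
          rw [epi_iff_surjective_up_to_refinements]
          intro T x
          obtain ⟨T', ρ, hρ, y, hy⟩ := hlift (x ≫ (K.ιTruncLE b).f b) (by
            rw [Category.assoc, (K.ιTruncLE b).comm,
              ((K.truncLE b).isZero_of_isStrictlyLE b (b + 1) (by omega)).eq_of_tgt
                ((K.truncLE b).d b (b + 1)) 0]
            simp)
          refine ⟨T', ρ, hρ, y, ?_⟩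
          rw [← cancel_mono ((K.ιTruncLE b).f b), Category.assoc, Category.assoc, hn]
          exact hy
        exact isIso_of_mono_of_epi _
      · haveI := hiso n h
        haveI : IsSplitEpi ((K.ιTruncLE b).f n) :=
          ⟨⟨⟨inv (ι.f n) ≫ ψ.f n, by rw [Category.assoc, hn, IsIso.inv_hom_id]⟩⟩⟩
        haveI : IsIso ((K.ιTruncLE b).f n) := isIso_of_mono_of_isSplitEpi _
        exact IsIso.of_isIso_fac_right hn
    exact Hom.isIso_of_components ψ
  rw [← hψ]
  infer_instance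

end criterion

variable (K : CochainComplex (FilD.FilF A) ℤ)

theorem exists_truncGE (a : ℤ) (hK : ∀ (p n : ℤ), n < a → IsZero (((FilD.grCx p).obj K).homology n)) :
    ∃ (L : CochainComplex (FilD.FilF A) ℤ) (φ : K ⟶ L), L.IsStrictlyGE a ∧ FilD.IsFilteredQuasiIso φ := by
  classical
  have hs : StrictStep (K.d (a - 1) a) := by
    have h : ∀ p, ((K.sc' (a - 1 - 1) (a - 1) a).map (FilD.grF A p)).Exact := fun p =>
      (((FilD.grCx p).obj K).exactAt_iff' (a - 1 - 1) (a - 1) a (by simp) (by simp)).mp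
        ((exactAt_iff_isZero_homology _ _).mpr (hK p (a - 1) (by omega)))
    exact (of_gr_exact _ h).2.2
  let Q : FilD.FilF A := ⟨cokernel (K.d (a - 1) a).hom, isFinFil_cokernel _ hs⟩
  let q : K.X a ⟶ Q := ObjectProperty.homMk (cokernel.π _)
  have hq : K.d (a - 1) a ≫ q = 0 := by ext : 1; exact cokernel.condition _
  let D : ∀ n, (W : FilD.FilF A) × (K.X n ⟶ W) := fun n =>
    if n < a then ⟨0, 0⟩ else if h : n = a then ⟨Q, (K.XIsoOfEq h).hom ≫ q⟩ else ⟨K.X n, 𝟙 _⟩
  have hD1 : ∀ n, n < a → D n = ⟨0, 0⟩ := fun n h => by simp [D, h]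
  have hD2 : D a = ⟨Q, q⟩ := by simp [D]
  have hD3 : ∀ n, a < n → D n = ⟨K.X n, 𝟙 _⟩ := fun n h => by simp [D, not_lt.mpr h.le, h.ne']
  have hepi : ∀ n, Epi (D n).2 := fun n => by
    rcases lt_trichotomy n a with h | h | h
    · rw [hD1 n h]; exact ⟨fun f g _ => (isZero_zero _).eq_of_src f g⟩
    · subst h
      rw [hD2]
      exact (FilD.IsFinFil A).ι.epi_of_epi_map (inferInstanceAs (Epi (cokernel.π _)))
    · rw [hD3 n h]; infer_instance
  have hd : ∀ n, ∃ d : (D n).1 ⟶ (D (n + 1)).1, (D n).2 ≫ d = K.d n (n + 1) ≫ (D (n + 1)).2 := by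
    intro n
    rcases lt_trichotomy n a with h | h | h
    · refine ⟨0, ?_⟩
      rw [comp_zero]
      rcases lt_or_eq_of_le (show n + 1 ≤ a by omega) with h' | h'
      · rw [hD1 _ h']; exact comp_zero.symm
      · subst h'
        rw [hD2]
        have : K.d n (n + 1) ≫ q = 0 := by
          have e : n + 1 - 1 = n := by omega
          rw [← XIsoOfEq_inv_comp_d K e (n + 1), Category.assoc, hq, comp_zero]
        exact this.symm
    · subst h
      have e : D n = ⟨Q, q⟩ := by simp [D]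
      rw [e]
      let f := K.d n (n + 1) ≫ (D (n + 1)).2
      refine ⟨ObjectProperty.homMk (cokernel.desc (K.d (n - 1) n).hom f.hom ?_), ?_⟩
      · have : K.d (n - 1) n ≫ f = 0 := by simp [f]
        exact congrArg (fun g : K.X (n - 1) ⟶ (D (n + 1)).1 => g.hom) this
      · ext : 1
        exact cokernel.π_desc _ _ _
    · have e : D n = ⟨K.X n, 𝟙 _⟩ := by simp [D, not_lt.mpr h.le, h.ne']
      rw [e]
      exact ⟨_, Category.id_comp _⟩
  choose d hd using hd
  let L : CochainComplex (FilD.FilF A) ℤ := CochainComplex.of (fun n => (D n).1) d fun n => by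
    haveI := hepi n
    rw [← cancel_epi (D n).2, comp_zero, reassoc_of% hd n, hd (n + 1)]
    simp
  let φ : K ⟶ L :=
    { f := fun n => (D n).2
      comm' := fun i j hij => by
        obtain rfl : i + 1 = j := hij
        dsimp [L]
        rw [CochainComplex.of_d]
        exact hd i }
  have hLz : ∀ n, n < a → IsZero (L.X n) := fun n hn => by
    change IsZero (D n).1
    rw [show D n = ⟨0, 0⟩ by simp [D, hn]]
    exact isZero_zero _
  haveI hL : L.IsStrictlyGE a := (CochainComplex.isStrictlyGE_iff _ _).mpr hLz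
  refine ⟨L, φ, hL, fun p => ?_⟩
  haveI : ((FilD.grCx p).obj K).IsGE a := (CochainComplex.isGE_iff _ _).mpr fun i hi =>
    (exactAt_iff_isZero_homology _ _).mpr (hK p i hi)
  haveI : ((FilD.grCx p).obj L).IsStrictlyGE a := (CochainComplex.isStrictlyGE_iff _ _).mpr fun i hi =>
    (FilD.grF A p).map_isZero (hLz i hi)
  obtain ⟨h1, w, h2⟩ := gr_exact_of_epi (K.d (a - 1) a).hom (cokernel.π (K.d (a - 1) a).hom)
    (fun q => by rw [← NatTrans.comp_app, cokernel.condition]; rfl)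
    (fun q => cokernel_exact _ q) p
  have e : D a = ⟨Q, q⟩ := by simp [D]
  have hta : ∀ (P : ∀ (W : FilD.FilF A), (K.X a ⟶ W) → Prop), P Q q → P (L.X a) (φ.f a) := by
    intro P hP
    change P (D a).1 (D a).2
    rw [e]; exact hP
  refine quasiIso_of_quotient _ a (fun n hn => ?_) ?_ ?_
  · change IsIso ((FilD.grF A p).map (φ.f n))
    haveI : IsIso (φ.f n) := by
      change IsIso (D n).2
      rw [show D n = ⟨K.X n, 𝟙 _⟩ by simp [D, not_lt.mpr hn.le, hn.ne']]
      exact IsIso.id _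
    infer_instance
  · exact hta (fun W f => Epi ((FilD.grF A p).map f)) h1
  · exact hta (fun W f => ∀ ⦃T : A⦄ (x : T ⟶ (FilD.grF A p).obj (K.X a)),
      x ≫ (FilD.grF A p).map f = 0 → ∃ (T' : A) (ρ : T' ⟶ T) (_ : Epi ρ)
        (y : T' ⟶ (FilD.grF A p).obj (K.X (a - 1))), ρ ≫ x = y ≫ (FilD.grF A p).map (K.d (a - 1) a))
      fun T x hx => ((ShortComplex.exact_iff_exact_up_to_refinements _).mp h2) x hx

theorem exists_truncLE (b : ℤ) (hK : ∀ (p n : ℤ), b < n → IsZero (((FilD.grCx p).obj K).homology n)) :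
    ∃ (M : CochainComplex (FilD.FilF A) ℤ) (φ : M ⟶ K), M.IsStrictlyLE b ∧ FilD.IsFilteredQuasiIso φ := by
  classical
  have hs : StrictStep (K.d b (b + 1)) := by
    have h : ∀ p, ((K.sc' b (b + 1) (b + 1 + 1)).map (FilD.grF A p)).Exact := fun p =>
      (((FilD.grCx p).obj K).exactAt_iff' b (b + 1) (b + 1 + 1) (by simp) (by simp)).mp
        ((exactAt_iff_isZero_homology _ _).mpr (hK p (b + 1) (by omega)))
    exact (of_gr_exact _ h).2.1
  let Q : FilD.FilF A := ⟨kernel (K.d b (b + 1)).hom, isFinFil_kernel _⟩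
  let q : Q ⟶ K.X b := ObjectProperty.homMk (kernel.ι _)
  let D : ∀ n, (W : FilD.FilF A) × (W ⟶ K.X n) := fun n =>
    if b < n then ⟨0, 0⟩ else if h : n = b then ⟨Q, q ≫ (K.XIsoOfEq h.symm).hom⟩ else ⟨K.X n, 𝟙 _⟩
  have hD1 : ∀ n, b < n → D n = ⟨0, 0⟩ := fun n h => by simp [D, h]
  have hD2 : D b = ⟨Q, q⟩ := by simp [D]
  have hD3 : ∀ n, n < b → D n = ⟨K.X n, 𝟙 _⟩ := fun n h => by simp [D, not_lt.mpr h.le, h.ne]
  have hmono : ∀ n, Mono (D n).2 := fun n => by
    rcases lt_trichotomy b n with h | h | h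
    · rw [hD1 n h]; exact ⟨fun f g _ => (isZero_zero _).eq_of_tgt f g⟩
    · subst h
      rw [hD2]
      exact (FilD.IsFinFil A).ι.mono_of_mono_map (inferInstanceAs (Mono (kernel.ι _)))
    · rw [hD3 n h]; infer_instance
  have hd : ∀ n, ∃ d : (D n).1 ⟶ (D (n + 1)).1, d ≫ (D (n + 1)).2 = (D n).2 ≫ K.d n (n + 1) := by
    intro n
    rcases lt_trichotomy (n + 1) b with h | h | h
    · have e : D (n + 1) = ⟨K.X (n + 1), 𝟙 _⟩ := by simp [D, not_lt.mpr h.le, h.ne]
      rw [e]
      exact ⟨_, Category.comp_id _⟩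
    · subst h
      have e : D (n + 1) = ⟨Q, q⟩ := by simp [D]
      rw [e]
      let f := (D n).2 ≫ K.d n (n + 1)
      refine ⟨ObjectProperty.homMk (kernel.lift (K.d (n + 1) (n + 1 + 1)).hom f.hom ?_), ?_⟩
      · have : f ≫ K.d (n + 1) (n + 1 + 1) = 0 := by simp [f]
        exact congrArg (fun g : (D n).1 ⟶ K.X (n + 1 + 1) => g.hom) this
      · ext : 1
        exact kernel.lift_ι _ _ _
    · refine ⟨0, ?_⟩
      rw [zero_comp]
      rcases lt_or_eq_of_le (show b ≤ n by omega) with h' | h'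
      · rw [hD1 _ h']; exact zero_comp.symm
      · subst h'
        rw [hD2]
        have : q ≫ K.d b (b + 1) = 0 := by ext : 1; exact kernel.condition _
        exact this.symm
  choose d hd using hd
  let M : CochainComplex (FilD.FilF A) ℤ := CochainComplex.of (fun n => (D n).1) d fun n => by
    haveI := hmono (n + 1 + 1)
    rw [← cancel_mono (D (n + 1 + 1)).2, zero_comp, Category.assoc, hd (n + 1), reassoc_of% hd n]
    simp
  let φ : M ⟶ K :=
    { f := fun n => (D n).2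
      comm' := fun i j hij => by
        obtain rfl : i + 1 = j := hij
        dsimp [M]
        rw [CochainComplex.of_d]
        exact (hd i).symm }
  have hMz : ∀ n, b < n → IsZero (M.X n) := fun n hn => by
    change IsZero (D n).1
    rw [show D n = ⟨0, 0⟩ by simp [D, hn]]
    exact isZero_zero _
  haveI hM : M.IsStrictlyLE b := (CochainComplex.isStrictlyLE_iff _ _).mpr hMz
  refine ⟨M, φ, hM, fun p => ?_⟩
  haveI : ((FilD.grCx p).obj K).IsLE b := (CochainComplex.isLE_iff _ _).mpr fun i hi =>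
    (exactAt_iff_isZero_homology _ _).mpr (hK p i hi)
  haveI : ((FilD.grCx p).obj M).IsStrictlyLE b := (CochainComplex.isStrictlyLE_iff _ _).mpr fun i hi =>
    (FilD.grF A p).map_isZero (hMz i hi)
  obtain ⟨h1, w, h2⟩ := gr_kernel (K.d b (b + 1)) hs p
  have e : D b = ⟨Q, q⟩ := by simp [D]
  have hta : ∀ (P : ∀ (W : FilD.FilF A), (W ⟶ K.X b) → Prop), P Q q → P (M.X b) (φ.f b) := by
    intro P hP
    change P (D b).1 (D b).2
    rw [e]; exact hP
  refine quasiIso_of_sub _ b (fun n hn => ?_) ?_ ?_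
  · change IsIso ((FilD.grF A p).map (φ.f n))
    haveI : IsIso (φ.f n) := by
      change IsIso (D n).2
      rw [show D n = ⟨K.X n, 𝟙 _⟩ by simp [D, not_lt.mpr hn.le, hn.ne]]
      exact IsIso.id _
    infer_instance
  · exact hta (fun W f => Mono ((FilD.grF A p).map f)) h1
  · exact hta (fun W f => ∀ ⦃T : A⦄ (x : T ⟶ (FilD.grF A p).obj (K.X b)),
      x ≫ (FilD.grF A p).map (K.d b (b + 1)) = 0 → ∃ (T' : A) (ρ : T' ⟶ T) (_ : Epi ρ)
        (y : T' ⟶ (FilD.grF A p).obj W), ρ ≫ x = y ≫ (FilD.grF A p).map f)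
      fun T x hx => ((ShortComplex.exact_iff_exact_up_to_refinements _).mp h2) x hx

end Groth.Agent.FilD70
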